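import Cfsg.Agent.Symplectic.Alt

/-!
Root elements of the point stabiliser of a symplectic group in characteristic two.
-/

set_option autoImplicit false

namespace Cfsg.Agent.H96.TwoRoot

open LinearMap (BilinForm)
open Cfsg.Agent.Symplectic

variable {F V : Type*} [Field F] [AddCommGroup V] [Module F V]

/-- The root element with centre `c`, vector `w` and scalar `l`. -/
def rtf (B : BilinForm F V) (c w : V) (l : F) (x : V) : V :=
  x + B x c • w + (B x w + l * B x c) • c

/-- The root element lies in `L`. -/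
def InL (B : BilinForm F V) (L : Subgroup (V ≃ₗ[F] V)) (c w : V) (l : F) : Prop :=
  ∃ g ∈ L, ∀ x, g x = rtf B c w l x

/-- Every vector orthogonal to `c` is the vector of some root element in `L`. -/
def RootAt (B : BilinForm F V) (L : Subgroup (V ≃ₗ[F] V)) (c : V) : Prop :=
  ∀ w, B c w = 0 → ∃ l, InL B L c w l

/-- `L` has no transvection with centre `c`. -/
def NoTv (B : BilinForm F V) (L : Subgroup (V ≃ₗ[F] V)) (c : V) : Prop :=
  ∀ l, InL B L c 0 l → l = 0

/-- A subgroup of the symplectic group in characteristic two. -/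
structure Ctx (B : BilinForm F V) (L : Subgroup (V ≃ₗ[F] V)) : Prop where
  two : (2 : F) = 0
  alt : B.IsAlt
  nd : B.Nondegenerate
  le : L ≤ Isom B

variable {B : BilinForm F V} {L : Subgroup (V ≃ₗ[F] V)}

namespace Ctx

variable (C : Ctx B L)
include C
set_option linter.unusedSectionVars false

theorem self (x : V) : B x x = 0 := alt_self C.alt x

theorem add_self (a : F) : a + a = 0 := by linear_combination a * C.two

theorem neg (a : F) : -a = a := by linear_combination (-a) * C.two

theorem comm (x y : V) : B x y = B y x := by rw [alt_swap C.alt x y, C.neg]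

theorem vadd_self (x : V) : x + x = 0 := by rw [← two_smul F, C.two, zero_smul]

theorem vneg (x : V) : -x = x := neg_eq_of_add_eq_zero_left (C.vadd_self x)

theorem eq_of_add (a b : F) (h : a + b = 0) : a = b := by linear_combination h - b * C.two

theorem inL_zero (c : V) : InL B L c 0 0 := ⟨1, L.one_mem, fun x => by simp [rtf]⟩

theorem rtf_fix {c w : V} {x : V} (l : F) (h1 : B x c = 0) (h2 : B x w = 0) : rtf B c w l x = x := by
  simp [rtf, h1, h2]

theorem inL_add {c w w' : V} {l m : F} (h : InL B L c w l) (h' : InL B L c w' m) (hw : B c w = 0)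
    (hw' : B c w' = 0) : InL B L c (w + w') (l + m + B w' w) := by
  obtain ⟨g, hg, e⟩ := h
  obtain ⟨g', hg', e'⟩ := h'
  refine ⟨g * g', L.mul_mem hg hg', fun x => ?_⟩
  show g (g' x) = _
  rw [e', e]
  simp only [rtf, map_add, map_smul, LinearMap.add_apply, LinearMap.smul_apply, smul_eq_mul,
    C.self, hw, C.comm w' c, hw']
  match_scalars <;> ring

theorem inL_sub {c w w' : V} {l m : F} (h : InL B L c w l) (h' : InL B L c w' m) (hw : B c w = 0)
    (hw' : B c w' = 0) : InL B L c (w - w') (l + m + B w' w) := by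
  rw [sub_eq_add_neg, C.vneg]
  exact C.inL_add h h' hw hw'

theorem inL_congr {c w : V} {l l' : F} (h : InL B L c w l) (e : l = l') : InL B L c w l' := e ▸ h

theorem inL_smul_center {c w : V} {l : F} (s : F) (h : InL B L (s • c) w l) :
    InL B L c (s • w) (s ^ 2 * l) := by
  obtain ⟨g, hg, e⟩ := h
  refine ⟨g, hg, fun x => ?_⟩
  rw [e]
  simp only [rtf, map_smul, smul_eq_mul]
  match_scalars <;> ring

theorem inL_center_smul {c w : V} {l : F} {s : F} (hs : s ≠ 0) (h : InL B L c w l) :
    InL B L (s • c) (s⁻¹ • w) ((s⁻¹) ^ 2 * l) := by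
  refine C.inL_smul_center s⁻¹ ?_
  rwa [inv_smul_smul₀ hs]

theorem inL_shift {c w : V} {l : F} (s : F) (h : InL B L c w l) : InL B L c (w + s • c) l := by
  obtain ⟨g, hg, e⟩ := h
  refine ⟨g, hg, fun x => ?_⟩
  rw [e]
  simp only [rtf, map_add, map_smul, smul_eq_mul]
  match_scalars <;> first
    | ring1
    | linear_combination (s * B x c) * C.two
    | linear_combination (-(s * B x c)) * C.two

theorem map_form {g : V ≃ₗ[F] V} (hg : g ∈ L) (x y : V) : B (g x) (g y) = B x y := C.le hg x y

theorem inL_conj {c w : V} {l : F} (h : InL B L c w l) {g : V ≃ₗ[F] V} (hg : g ∈ L) :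
    InL B L (g c) (g w) l := by
  obtain ⟨h, hh, e⟩ := h
  refine ⟨g * h * g⁻¹, L.mul_mem (L.mul_mem hg hh) (L.inv_mem hg), fun x => ?_⟩
  show g (h (g.symm x)) = _
  rw [e]
  simp only [rtf, map_add, map_smul, g.apply_symm_apply]
  congr 2
  · rw [← C.map_form hg (g.symm x) c, g.apply_symm_apply]
  · rw [← C.map_form hg (g.symm x) c, ← C.map_form hg (g.symm x) w, g.apply_symm_apply]

theorem rootAt_conj {c : V} (h : RootAt B L c) {g : V ≃ₗ[F] V} (hg : g ∈ L) : RootAt B L (g c) := by
  intro w hw
  obtain ⟨l, hl⟩ := h (g.symm w) (by rw [← C.map_form hg, g.apply_symm_apply]; exact hw)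
  exact ⟨l, by simpa using C.inL_conj hl hg⟩

theorem rootAt_smul {c : V} (h : RootAt B L c) {s : F} (hs : s ≠ 0) : RootAt B L (s • c) := by
  intro w hw
  rw [map_smul, LinearMap.smul_apply, smul_eq_mul] at hw
  obtain ⟨l, hl⟩ := h (s • w) (by rw [map_smul, smul_eq_mul, (mul_eq_zero.1 hw).resolve_left hs, mul_zero])
  have := C.inL_center_smul hs hl
  rw [inv_smul_smul₀ hs] at this
  exact ⟨_, this⟩

theorem noTv_conj {c : V} (h : NoTv B L c) {g : V ≃ₗ[F] V} (hg : g ∈ L) : NoTv B L (g c) := by
  intro l hl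
  have := C.inL_conj hl (L.inv_mem hg)
  rw [map_zero, show g⁻¹ (g c) = c from g.symm_apply_apply c] at this
  exact h l this

theorem noTv_smul {c : V} (h : NoTv B L c) {s : F} (hs : s ≠ 0) : NoTv B L (s • c) := by
  intro l hl
  have := C.inL_smul_center s hl
  rw [smul_zero] at this
  exact (mul_eq_zero.1 (h _ this)).resolve_left (pow_ne_zero 2 hs)

theorem unique {c w : V} {l m : F} (hc : NoTv B L c) (hw : B c w = 0) (h : InL B L c w l)
    (h' : InL B L c w m) : l = m := by
  have := C.inL_sub h h' hw hw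
  rw [sub_self, C.self, add_zero] at this
  exact C.eq_of_add _ _ (hc _ this)

/-- A root element with vector in a line `v` moved to `a + v` acts on the root group of `a`. -/
theorem line {a b v : V} {m k : F} (hab : B a b = 1) (hv : v ≠ 0) (hva : B a v = 0)
    (hvb : B b v = 0) (hra : RootAt B L a) (hb0 : InL B L b v 0) (hk : InL B L a (m • v) k) (r : F) :
    InL B L a ((k * r) • v) (k * r ^ 2) := by
  obtain ⟨g, hg, eg⟩ := hb0
  have hga : g a = a + v := by simp [eg, rtf, hab, hva]
  have hgv : g (m • v) = m • v := by simp [eg, rtf, C.comm v b, hvb, C.self]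
  obtain ⟨h, hh, eh⟩ := C.inL_conj hk hg
  rw [hga, hgv] at eh
  have hha : h a = a := by simp [eh, rtf, C.self, hva]
  obtain ⟨x, hxa, hxv⟩ : ∃ x, B a x = 0 ∧ B x v = r := by
    obtain ⟨y, hy⟩ : ∃ y, B y v ≠ 0 := by
      by_contra hc
      push Not at hc
      exact hv (C.nd.2 v hc)
    refine ⟨(r * (B y v)⁻¹) • (y + B a y • b), ?_, ?_⟩
    · simp [hab, C.add_self]
    · simp [hvb]
      field_simp
  obtain ⟨p, hp⟩ := hra x hxa
  have h1 := C.inL_conj hp hh
  rw [hha] at h1
  have hhx : h x + (r * (m + k)) • a = x + (k * r) • v := by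
    simp only [eh, rtf, map_add, map_smul, smul_eq_mul, C.comm x a, hxa, hxv, zero_add]
    match_scalars
    · ring
    · linear_combination (r * m) * C.two
    · linear_combination (r * (m + k)) * C.two
  have h2 := C.inL_shift (r * (m + k)) h1
  rw [hhx] at h2
  have h3 := C.inL_sub h2 hp (by simp [hxa, hva]) hxa
  rw [add_sub_cancel_left] at h3
  refine C.inL_congr h3 ?_
  simp [C.self, hxv]
  linear_combination p * C.two

end Ctx

end Cfsg.Agent.H96.TwoRoot
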