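import Cfsg.Agent.H96.TwoRoot.Basic
import Cfsg.Agent.Orthogonal.Dickson

/-!
Two non-orthogonal root centres carry one quadratic form.
-/

set_option autoImplicit false

namespace Cfsg.Agent.H96.TwoRoot

open LinearMap (BilinForm)
open Cfsg.Agent.Symplectic

variable {F V : Type*} [Field F] [AddCommGroup V] [Module F V]

/-- Two non-orthogonal centres of root groups. -/
structure Frame (B : BilinForm F V) (L : Subgroup (V ≃ₗ[F] V)) (a b : V) : Prop where
  ctx : Ctx B L
  hab : B a b = 1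
  rootA : RootAt B L a
  rootB : RootAt B L b

variable {B : BilinForm F V} {L : Subgroup (V ≃ₗ[F] V)}

namespace Ctx

variable (C : Ctx B L)
include C

/-- The action of a unipotent element fixing the centre on its root group. -/
theorem tail {a v x : V} {r d e : F} (ha : RootAt B L a) {h : V ≃ₗ[F] V} (hh : h ∈ L) (hha : h a = a)
    (hax : B a x = 0) (hav : B a v = 0) (hxv : B x v = r) (hhx : h x = x + (d * r) • v + e • a) :
    InL B L a ((d * r) • v) (d * r ^ 2) := by
  obtain ⟨p, hp⟩ := ha x hax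
  have h1 := C.inL_conj hp hh
  rw [hha, hhx] at h1
  have h2 := C.inL_shift e h1
  rw [add_assoc (x + (d * r) • v), ← add_smul, C.add_self, zero_smul, add_zero] at h2
  have h3 := C.inL_sub h2 hp (by simp [hax, hav]) hax
  rw [add_sub_cancel_left] at h3
  refine C.inL_congr h3 ?_
  simp [C.self, hxv]
  linear_combination p * C.two

end Ctx

namespace Frame

variable {a b : V} (K : Frame B L a b)
include K
set_option linter.unusedSectionVars false

theorem swap : Frame B L b a := ⟨K.ctx, by rw [K.ctx.comm]; exact K.hab, K.rootB, K.rootA⟩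

theorem hba : B b a = 1 := by rw [K.ctx.comm]; exact K.hab

theorem exists_pair {v : V} (hv : v ≠ 0) (hva : B a v = 0) (hvb : B b v = 0) (r : F) :
    ∃ x, B a x = 0 ∧ B b x = 0 ∧ B x v = r := by
  obtain ⟨y, hy⟩ : ∃ y, B y v ≠ 0 := by
    by_contra hc
    push Not at hc
    exact hv (K.ctx.nd.2 v hc)
  refine ⟨(r * (B y v)⁻¹) • (y + B a y • b + B b y • a), ?_, ?_, ?_⟩
  · simp [K.hab, K.ctx.self, K.ctx.add_self]
  · simp [K.hba, K.ctx.self, K.ctx.add_self]
  · simp [hvb, hva]
    field_simp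

/-- One transvection and its partner give all transvections with the centre. -/
theorem full [Fintype F] {v₀ : V} (hv₀ : v₀ ≠ 0) (hva : B a v₀ = 0) (hvb : B b v₀ = 0)
    {la lb : F} (hla : la ≠ 0) (ha : InL B L a 0 la) (hlb : lb ≠ 0) (hb : InL B L b 0 lb) (l : F) :
    InL B L a 0 l := by
  classical
  rcases eq_or_ne l 0 with rfl | hl
  · exact K.ctx.inL_zero a
  by_cases hq : ∀ s : F, s ≠ 0 → s = la
  · rwa [hq l hl]
  push Not at hq
  obtain ⟨s, hs, hsla⟩ := hq
  -- a root element at `b` with scalar zero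
  obtain ⟨v, hv, hv1, hv2, hbv⟩ : ∃ v, v ≠ 0 ∧ B a v = 0 ∧ B b v = 0 ∧ InL B L b v 0 := by
    have hex : ∀ t : F, ∃ m, InL B L b (t • v₀) m ∧ (t = 0 → m = 0) := fun t => by
      rcases eq_or_ne t 0 with rfl | ht
      · exact ⟨0, by rw [zero_smul]; exact K.ctx.inL_zero b, fun _ => rfl⟩
      · obtain ⟨m, hm⟩ := K.rootB (t • v₀) (by rw [map_smul, hvb, smul_zero])
        exact ⟨m, hm, fun h => absurd h ht⟩
    choose σ hσ hσ0 using hex
    let P : Option F → F × F := fun o => o.elim (0, lb) fun t => (t, σ t)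
    have hP : ∀ o, InL B L b ((P o).1 • v₀) (P o).2 := fun o => by
      cases o with
      | none => simpa [P] using hb
      | some t => exact hσ t
    obtain ⟨o, o', hne, heq⟩ := Fintype.exists_ne_map_eq_of_card_lt (fun o => (P o).2)
      (by rw [Fintype.card_option]; omega)
    have hne' : (P o).1 ≠ (P o').1 := fun e => hne <| by
      cases o with
      | none => cases o' with
        | none => rfl
        | some t =>
          simp only [P, Option.elim] at e heq
          exact absurd (heq.trans (hσ0 t e.symm)) hlb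
      | some t => cases o' with
        | none =>
          simp only [P, Option.elim] at e heq
          exact absurd (heq.symm.trans (hσ0 t e)) hlb
        | some t' => simp only [P, Option.elim] at e; rw [e]
    refine ⟨((P o).1 - (P o').1) • v₀, smul_ne_zero (sub_ne_zero.2 hne') hv₀, by simp [hva], by simp [hvb], ?_⟩
    have h1 := K.ctx.inL_sub (hP o) (hP o') (by simp [hvb]) (by simp [hvb])
    rw [← sub_smul] at h1
    refine K.ctx.inL_congr h1 ?_
    simp [heq, K.ctx.self, K.ctx.add_self]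
  have h1 : ∀ r, InL B L a ((la * r) • v) (la * r ^ 2) := fun r =>
    K.ctx.line (m := 0) K.hab hv hv1 hv2 K.rootA hbv (by rwa [zero_smul]) r
  set k := la * (s * la⁻¹) ^ 2 with hk
  have hk0 : k ≠ 0 := by simp [hk, hla, hs]
  have h2 : ∀ r, InL B L a ((k * r) • v) (k * r ^ 2) := fun r =>
    K.ctx.line K.hab hv hv1 hv2 K.rootA hbv (h1 _) r
  have hc : la⁻¹ + k⁻¹ ≠ 0 := fun h => by
    have h3 := inv_injective (K.ctx.eq_of_add _ _ h)
    have h4 : (s - la) ^ 2 = 0 := by
      have : la * la = s * s := by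
        rw [hk] at h3
        field_simp at h3
        linear_combination h3
      linear_combination (-1 : F) * this + (la * la - s * la) * K.ctx.two
    exact hsla (sub_eq_zero.1 (pow_eq_zero_iff two_ne_zero |>.1 h4))
  obtain ⟨t, ht⟩ := Cfsg.Agent.Orthogonal.isSquare_of_two_eq_zero K.ctx.two (l * (la⁻¹ + k⁻¹)⁻¹)
  have h5 := K.ctx.inL_sub (h1 (t * la⁻¹)) (h2 (t * k⁻¹)) (by simp [hv1]) (by simp [hv1])
  have e1 : la * (t * la⁻¹) = t := by field_simp
  have e2 : k * (t * k⁻¹) = t := by field_simp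
  rw [e1, e2, sub_self] at h5
  refine K.ctx.inL_congr h5 ?_
  simp only [map_smul, LinearMap.smul_apply, K.ctx.self, smul_zero, add_zero]
  have e3 : la * (t * la⁻¹) ^ 2 + k * (t * k⁻¹) ^ 2 = t * t * (la⁻¹ + k⁻¹) := by field_simp
  rw [e3, ← ht, inv_mul_cancel_right₀ hc]

variable (ha0 : NoTv B L a) (hb0 : NoTv B L b)

include ha0 in
/-- A zero at `b` makes the whole line zero at `a`. -/
theorem zero_line {w₀ : F} (h01 : w₀ ≠ 0 ∧ w₀ ≠ 1) {v : V} (hva : B a v = 0) (hvb : B b v = 0)
    (hb : InL B L b v 0) (s : F) : InL B L a (s • v) 0 := by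
  rcases eq_or_ne v 0 with rfl | hv
  · rw [smul_zero]; exact K.ctx.inL_zero a
  obtain ⟨k, hk⟩ := K.rootA (s • v) (by simp [hva])
  rcases eq_or_ne k 0 with rfl | hk0
  · exact hk
  exfalso
  have h1 := fun r => K.ctx.line K.hab hv hva hvb K.rootA hb hk r
  have h2 := fun r => K.ctx.line K.hab hv hva hvb K.rootA hb (h1 w₀) r
  have h3 := h2 ((w₀ ^ 2)⁻¹)
  have h4 := h1 1
  rw [mul_one] at h4
  rw [show k * w₀ ^ 2 * (w₀ ^ 2)⁻¹ = k by field_simp [h01.1]] at h3
  have h5 := K.ctx.unique ha0 (by simp [hva]) h3 h4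
  have h6 : w₀ ^ 2 = 1 := by
    field_simp [h01.1] at h5
    first
      | exact h5
      | exact h5.symm
      | linear_combination h5
      | linear_combination (-1 : F) * h5
  have h7 : (w₀ - 1) ^ 2 = 0 := by linear_combination h6 + (1 - w₀) * K.ctx.two
  exact h01.2 (sub_eq_zero.1 (pow_eq_zero_iff two_ne_zero |>.1 h7))

/-- The root groups at `a` and `b` share a quadratic form, given a zero. -/
theorem forms_of_zero (ha0 : NoTv B L a) (hb0 : NoTv B L b) {w₀ : F} (h01 : w₀ ≠ 0 ∧ w₀ ≠ 1) {v : V}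
    (hv : v ≠ 0) (hva : B a v = 0) (hvb : B b v = 0) (hb : InL B L b v 0) (w : V) (hwa : B a w = 0)
    (hwb : B b w = 0) (k : F) (hk : InL B L a w k) :
    InL B L b w k ∧ ∀ s : F, InL B L a (s • w) (s ^ 2 * k) := by
  have hva0 : ∀ s : F, InL B L a (s • v) 0 := fun s => K.zero_line ha0 h01 hva hvb hb s
  have hvb0 : ∀ s : F, InL B L b (s • v) 0 := fun s =>
    K.swap.zero_line hb0 h01 hvb hva (by simpa using hva0 1) s
  have main : ∀ w, B a w = 0 → B b w = 0 → B v w ≠ 0 → ∀ k, InL B L a w k → ∀ s : F,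
      InL B L b (s • w) (s ^ 2 * k) ∧ InL B L a (s • w) (s ^ 2 * k) := by
    intro w hwa hwb hvw k hk s
    set t := k * (B v w)⁻¹ with ht
    set z := w + t • v with hz
    have htv : t * B v w = k := by rw [ht, inv_mul_cancel_right₀ hvw]
    have hz0 : InL B L a z 0 := by
      refine K.ctx.inL_congr (K.ctx.inL_add hk (hva0 t) hwa (by simp [hva])) ?_
      simp [htv, K.ctx.add_self]
    have hzb : ∀ r : F, InL B L b (r • z) 0 := fun r =>
      K.swap.zero_line hb0 h01 (by simp [hz, hwb, hvb]) (by simp [hz, hwa, hva]) hz0 r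
    have hza : ∀ r : F, InL B L a (r • z) 0 := fun r =>
      K.zero_line ha0 h01 (by simp [hz, hwa, hva]) (by simp [hz, hwb, hvb]) (by simpa using hzb 1) r
    have hd : s • z - (s * t) • v = s • w := by rw [hz, smul_add, smul_smul, add_sub_cancel_right]
    constructor
    · have := K.ctx.inL_sub (hzb s) (hvb0 (s * t)) (by simp [hz, hwb, hvb]) (by simp [hvb])
      rw [hd] at this
      refine K.ctx.inL_congr this ?_
      simp [hz, K.ctx.self]
      linear_combination s ^ 2 * htv
    · have := K.ctx.inL_sub (hza s) (hva0 (s * t)) (by simp [hz, hwa, hva]) (by simp [hva])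
      rw [hd] at this
      refine K.ctx.inL_congr this ?_
      simp [hz, K.ctx.self]
      linear_combination s ^ 2 * htv
  by_cases hvw : B v w = 0
  swap
  · exact ⟨by simpa using (main w hwa hwb hvw k hk 1).1, fun s => (main w hwa hwb hvw k hk s).2⟩
  obtain ⟨x, hxa, hxb, hxv⟩ := K.exists_pair hv hva hvb 1
  have hvx : B v x = 1 := by rw [K.ctx.comm]; exact hxv
  obtain ⟨p, hp⟩ := K.rootA x hxa
  have hsum : InL B L a (w + x) (k + p + B x w) := K.ctx.inL_add hk hp hwa hxa
  have m1 := main x hxa hxb (by rw [hvx]; exact one_ne_zero) p hp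
  have m2 := main (w + x) (by simp [hwa, hxa]) (by simp [hwb, hxb]) (by simp [hvw, hvx]) _ hsum
  refine ⟨?_, fun s => ?_⟩
  · have := K.ctx.inL_sub (m2 1).1 (m1 1).1 (by simp [hwb, hxb]) (by simp [hxb])
    simp only [one_smul, add_sub_cancel_right] at this
    refine K.ctx.inL_congr this ?_
    simp [K.ctx.self, K.ctx.comm w x]
    linear_combination (p + B x w) * K.ctx.two
  · have := K.ctx.inL_sub (m2 s).2 (m1 s).2 (by simp [hwa, hxa]) (by simp [hxa])
    rw [← smul_sub, add_sub_cancel_right] at this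
    refine K.ctx.inL_congr this ?_
    simp [K.ctx.self, K.ctx.comm w x]
    linear_combination (s ^ 2 * p + s ^ 2 * B x w) * K.ctx.two

/-- An orthogonal pair of centres gives a zero at one of them. -/
theorem exists_zero_of_perp {w₀ : F} (h01 : w₀ ≠ 0 ∧ w₀ ≠ 1) (hb0 : NoTv B L b) {c : V}
    (hc : RootAt B L c) (hc0 : NoTv B L c) (hbc : B b c = 0) (hcb : ∀ t : F, c ≠ t • b) :
    ∃ v, v ≠ 0 ∧ B a v = 0 ∧ B b v = 0 ∧ InL B L b v 0 := by
  have hv : c + B a c • b ≠ 0 := fun h =>
    hcb (-B a c) (by rw [neg_smul]; exact eq_neg_of_add_eq_zero_left h)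
  obtain ⟨v, hvdef⟩ : ∃ v, v = c + B a c • b := ⟨_, rfl⟩
  rw [← hvdef] at hv
  have hva : B a v = 0 := by simp [hvdef, K.hab, K.ctx.add_self]
  have hvb : B b v = 0 := by simp [hvdef, hbc, K.ctx.self]
  -- move `c` so that it has a component along `b`
  obtain ⟨c', hc', hc0', m, hm, hce⟩ :
      ∃ c', RootAt B L c' ∧ NoTv B L c' ∧ ∃ m : F, m ≠ 0 ∧ c' = v + m • b := by
    by_cases h : B a c = 0
    · obtain ⟨w, hwa, hwb, hwv⟩ := K.exists_pair hv hva hvb 1
      obtain ⟨l, g, hg, eg⟩ := K.rootB w hwb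
      refine ⟨g c, K.ctx.rootAt_conj hc hg, K.ctx.noTv_conj hc0 hg, 1, one_ne_zero, ?_⟩
      have e : c = v := by rw [hvdef, h, zero_smul, add_zero]
      rw [eg, e]
      simp [rtf, K.ctx.comm v b, hvb, K.ctx.comm v w, hwv]
    · refine ⟨c, hc, hc0, B a c, h, ?_⟩
      rw [hvdef, add_assoc, ← add_smul, K.ctx.add_self, zero_smul, add_zero]
  subst hce
  have hex : ∀ s : F, ∃ l, InL B L (v + m • b) (s • v) l := fun s =>
    hc' _ (by simp [K.ctx.self, hvb])
  choose σ hσ using hex
  by_contra hno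
  push Not at hno
  have hne : ∀ s : F, s ≠ 0 → σ s ≠ 0 := by
    intro s hs h0
    obtain ⟨g, hg, eg⟩ := hσ s
    refine hno ((s * m) • v) (smul_ne_zero (mul_ne_zero hs hm) hv) (by simp [hva]) (by simp [hvb])
      ⟨g, hg, fun x => ?_⟩
    rw [eg, h0]
    simp only [rtf, map_add, map_smul, smul_eq_mul, zero_mul, add_zero]
    match_scalars <;> first
      | ring1
      | linear_combination (s * B x v) * K.ctx.two
  have hval : ∀ s : F, s ≠ 0 → ∀ r : F, InL B L b ((σ s * r) • v) (σ s * r ^ 2) := by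
    intro s hs r
    obtain ⟨g, hg, eg⟩ := hσ s
    obtain ⟨x, hxa, hxb, hxv⟩ := K.exists_pair hv hva hvb r
    refine K.ctx.tail (x := x) (e := r * (s + σ s) * m) K.rootB hg ?_ hxb hvb hxv ?_
    · simp [eg, rtf, hvb, K.ctx.self]
    · simp only [eg, rtf, map_add, map_smul, smul_eq_mul, K.ctx.comm x b, hxb, hxv]
      match_scalars <;> first
        | ring1
        | linear_combination (s * r) * K.ctx.two
  have hconst : ∀ s : F, s ≠ 0 → σ s = σ 1 := by
    intro s hs
    have h1 := hval s hs (σ 1)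
    have h2 := hval 1 one_ne_zero (σ s)
    rw [mul_comm (σ 1) (σ s)] at h2
    have h3 := K.ctx.unique hb0 (by simp [hvb]) h1 h2
    have h4 : (σ s * σ 1) * (σ s - σ 1) = 0 := by linear_combination -h3
    exact sub_eq_zero.1 ((mul_eq_zero.1 h4).resolve_left (mul_ne_zero (hne s hs) (hne 1 one_ne_zero)))
  have hw1 : w₀ + 1 ≠ 0 := fun h => h01.2 (K.ctx.eq_of_add _ _ h)
  have h5 := K.ctx.inL_add (hσ w₀) (hσ 1) (by simp [K.ctx.self, hvb]) (by simp [K.ctx.self, hvb])
  rw [← add_smul] at h5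
  have h6 := K.ctx.unique hc0' (by simp [K.ctx.self, hvb]) h5 (hσ (w₀ + 1))
  rw [hconst w₀ h01.1, hconst _ hw1] at h6
  simp [K.ctx.self, K.ctx.add_self] at h6
  exact hne 1 one_ne_zero h6.symm

/-- Without zeros the centres non-orthogonal to `a` are images of `b`. -/
theorem point_of_aniso [Finite F] {w₀ : F} (h01 : w₀ ≠ 0 ∧ w₀ ≠ 1) (ha0 : NoTv B L a) (hb0 : NoTv B L b)
    (hA : ∀ v, B a v = 0 → B b v = 0 → InL B L a v 0 → v = 0)
    (hB : ∀ v, B a v = 0 → B b v = 0 → InL B L b v 0 → v = 0)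
    {v₀ : V} (hv₀ : v₀ ≠ 0) (h₀a : B a v₀ = 0) (h₀b : B b v₀ = 0) {c : V} (hc : RootAt B L c)
    (hc0 : NoTv B L c) {x : V} {t : F} (hxa : B a x = 0) (hxb : B b x = 0) (hce : c = b + x + t • a) :
    InL B L a x t := by
  obtain ⟨p, hp⟩ := K.rootA x hxa
  rcases eq_or_ne p t with rfl | hpt
  · exact hp
  exfalso
  have hd : p + t ≠ 0 := fun h => hpt (K.ctx.eq_of_add _ _ h)
  -- a vector on the line of `v₀` with scalar `p + t`
  have hex : ∀ s : F, ∃ k, InL B L a (s • v₀) k := fun s => K.rootA _ (by simp [h₀a])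
  choose σ hσ using hex
  have hinj : Function.Injective σ := fun s s' e => by
    have := K.ctx.inL_sub (hσ s) (hσ s') (by simp [h₀a]) (by simp [h₀a])
    rw [← sub_smul, e] at this
    have h1 := hA _ (by simp [h₀a]) (by simp [h₀b])
      (K.ctx.inL_congr this (by simp [K.ctx.self, K.ctx.add_self]))
    exact sub_eq_zero.1 ((smul_eq_zero.1 h1).resolve_right hv₀)
  obtain ⟨s, hs⟩ := Finite.surjective_of_injective hinj (p + t)
  have hu := hσ s
  rw [hs] at hu
  obtain ⟨u, hua, hub, hu0, hu⟩ :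
      ∃ u, B a u = 0 ∧ B b u = 0 ∧ u ≠ 0 ∧ InL B L a u (p + t) := by
    refine ⟨s • v₀, by simp [h₀a], by simp [h₀b], fun e => hd ?_, hu⟩
    rw [e] at hu
    exact ha0 _ hu
  obtain ⟨g, hg, eg⟩ := hp
  obtain ⟨h, hh, eh⟩ := hu
  have hgc : g (b + (p + t) • a) = c := by
    rw [eg, hce]
    simp [rtf, K.hba, K.ctx.self, hxa, hxb]
    match_scalars <;> first | ring1 | linear_combination p * K.ctx.two
  have hhb : h b = b + u + (p + t) • a := by
    rw [eh]; simp [rtf, K.hba, hub]
  have hgh : (g * h)⁻¹ ∈ L := L.inv_mem (L.mul_mem hg hh)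
  have hback : h ((g * h)⁻¹ c) = b + (p + t) • a := by
    apply g.injective
    rw [hgc]
    exact (g * h).apply_symm_apply c
  refine absurd (K.exists_zero_of_perp h01 hb0 (K.ctx.rootAt_conj hc hgh) (K.ctx.noTv_conj hc0 hgh)
    ?_ ?_) (fun ⟨v, hv, hva, hvb, hv0⟩ => hv (hB v hva hvb hv0))
  · rw [← K.ctx.map_form hh, hback, hhb]
    simp only [map_add, map_smul, LinearMap.add_apply, LinearMap.smul_apply, smul_eq_mul, K.ctx.self,
      K.hab, K.hba, K.ctx.comm u b, K.ctx.comm u a, hua, hub]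
    linear_combination (p + t) * K.ctx.two
  · intro r hr
    rw [hr, map_smul, hhb] at hback
    have h1 := congrArg (B a) hback
    simp [K.hab, K.ctx.self, hua] at h1
    rw [h1, one_smul, add_right_comm, add_eq_left] at hback
    exact hu0 hback

/-- The root groups at `a` and `b` share a quadratic form if there are no zeros. -/
theorem forms_of_aniso [Finite F] {w₀ : F} (h01 : w₀ ≠ 0 ∧ w₀ ≠ 1) (ha0 : NoTv B L a) (hb0 : NoTv B L b)
    (hA : ∀ v, B a v = 0 → B b v = 0 → InL B L a v 0 → v = 0)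
    (hB : ∀ v, B a v = 0 → B b v = 0 → InL B L b v 0 → v = 0)
    (w : V) (hwa : B a w = 0) (hwb : B b w = 0) (k : F) (hk : InL B L a w k) :
    InL B L b w k ∧ ∀ s : F, InL B L a (s • w) (s ^ 2 * k) := by
  rcases eq_or_ne w 0 with rfl | hw
  · obtain rfl := ha0 _ hk
    exact ⟨K.ctx.inL_zero b, fun s => by simpa using K.ctx.inL_zero a⟩
  -- a scalar at `b` on the line of `w`
  have hex : ∀ s : F, ∃ l, InL B L b (s • w) l := fun s => K.rootB _ (by simp [hwb])
  choose σ hσ using hex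
  have hinj : Function.Injective σ := fun s s' e => by
    have := K.ctx.inL_sub (hσ s) (hσ s') (by simp [hwb]) (by simp [hwb])
    rw [← sub_smul, e] at this
    have h1 := hB _ (by simp [hwa]) (by simp [hwb])
      (K.ctx.inL_congr this (by simp [K.ctx.self, K.ctx.add_self]))
    exact sub_eq_zero.1 ((smul_eq_zero.1 h1).resolve_right hw)
  have main : ∀ β : F, β ≠ 0 → ∀ r l : F, InL B L a (r • w) l →
      InL B L b (β • r • w) (β ^ 2 * l) := by
    intro β hβ r l hl
    obtain ⟨s, hs⟩ := Finite.surjective_of_injective hinj β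
    obtain ⟨g, hg, eg⟩ := hσ s
    rw [hs] at eg
    have hga : g a = β • (b + (β⁻¹ * s) • w + β⁻¹ • a) := by
      rw [eg]
      simp only [rtf, map_smul, smul_eq_mul, K.hab, hwa, smul_add, smul_smul, one_smul, mul_zero,
        zero_add, mul_one, mul_inv_cancel₀ hβ, mul_inv_cancel_left₀ hβ, one_mul]
      abel
    have hgw : g (r • w) = r • w := by
      rw [eg]; simp [rtf, K.ctx.self, K.ctx.comm w b, hwb]
    set c := b + (β⁻¹ * s) • w + β⁻¹ • a with hc
    have hcr : RootAt B L c := by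
      have := K.ctx.rootAt_smul (K.ctx.rootAt_conj K.rootA hg) (inv_ne_zero hβ)
      rwa [hga, inv_smul_smul₀ hβ] at this
    have hc0 : NoTv B L c := by
      have := K.ctx.noTv_smul (K.ctx.noTv_conj ha0 hg) (inv_ne_zero hβ)
      rwa [hga, inv_smul_smul₀ hβ] at this
    obtain ⟨h, hh, eh⟩ := K.point_of_aniso h01 ha0 hb0 hA hB hw hwa hwb hcr hc0
      (x := (β⁻¹ * s) • w) (by simp [hwa]) (by simp [hwb]) hc
    have hhb : h b = c := by rw [eh, hc]; simp [rtf, K.hba, hwb]
    have hhw : h (β • r • w) = β • r • w := by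
      rw [eh]; simp [rtf, K.ctx.self, K.ctx.comm w a, hwa]
    have h1 := K.ctx.inL_conj hl hg
    rw [hga, hgw] at h1
    have h2 := K.ctx.inL_smul_center β h1
    obtain ⟨l', hl'⟩ := K.rootB (β • r • w) (by simp [hwb])
    have h3 := K.ctx.inL_conj hl' hh
    rw [hhb, hhw] at h3
    have hperp : B c (β • r • w) = 0 := by simp [hc, K.ctx.self, hwa, hwb]
    exact K.ctx.inL_congr hl' (K.ctx.unique hc0 hperp h3 h2)
  refine ⟨by simpa using main 1 one_ne_zero 1 k (by simpa using hk), fun s => ?_⟩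
  rcases eq_or_ne s 0 with rfl | hs
  · simpa using K.ctx.inL_zero a
  obtain ⟨l, hl⟩ := K.rootA (s • w) (by simp [hwa])
  refine K.ctx.inL_congr hl (K.ctx.unique hb0 (w := s • w) (by simp [hwb]) ?_ ?_)
  · simpa using main 1 one_ne_zero s l hl
  · simpa using main s hs 1 k (by simpa using hk)

/-- Zeros at `a` are zeros at `b` over the field of two elements. -/
theorem zero_of_zero (hF : ∀ s : F, s = 0 ∨ s = 1) {y z : V} (hz : z ≠ 0) (hza : B a z = 0)
    (hzb : B b z = 0) (hz0 : InL B L b z 0) (hya : B a y = 0) (hyb : B b y = 0) (hzy : B z y = 0)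
    (hy0 : InL B L a y 0) : InL B L b y 0 := by
  obtain ⟨g, hg, eg⟩ := hz0
  have hga : g a = a + z := by rw [eg]; simp [rtf, K.hab, hza]
  have hgy : g y = y := by rw [eg]; simp [rtf, K.ctx.comm y b, hyb, K.ctx.comm y z, hzy]
  have h1 := K.ctx.inL_conj hy0 hg
  rw [hga, hgy] at h1
  obtain ⟨h, hh, eh⟩ := h1
  obtain ⟨f, hf, ef⟩ := hy0
  obtain ⟨x, hxa, hxb, hxz⟩ := K.exists_pair hz hza hzb 1
  have hk : ∀ u, (h * f) u = u + B u z • y + B u y • z := fun u => by
    show h (f u) = _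
    rw [eh, ef]
    simp only [rtf, map_add, map_smul, LinearMap.add_apply, LinearMap.smul_apply, smul_eq_mul,
      K.ctx.self, hza, K.ctx.comm y a, hya, K.ctx.comm y z, hzy, zero_mul, mul_zero, add_zero]
    match_scalars <;> first
      | ring1
      | linear_combination (B u y) * K.ctx.two
      | linear_combination (B u a) * K.ctx.two
  have hkb : (h * f) b = b := by rw [hk]; simp [hyb, hzb]
  obtain ⟨p, hp⟩ := K.rootB x hxb
  have h2 := K.ctx.inL_conj hp (L.mul_mem hh hf)
  rw [hkb, hk x, hxz, one_smul, add_assoc] at h2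
  have h3 := K.ctx.inL_sub h2 hp (by simp [hxb, hyb, hzb]) hxb
  rw [add_sub_cancel_left] at h3
  have hzs : InL B L b (B x y • z) 0 := by
    rcases hF (B x y) with e | e <;> rw [e]
    · simpa using K.ctx.inL_zero b
    · exact (one_smul F z).symm ▸ ⟨g, hg, eg⟩
  have h4 := K.ctx.inL_sub h3 hzs (by simp [hyb, hzb]) (by simp [hzb])
  rw [add_sub_cancel_right] at h4
  refine K.ctx.inL_congr h4 ?_
  simp [K.ctx.self, hxz, hzy]
  linear_combination (p + B x y) * K.ctx.two

/-- A third direction orthogonal to a vector of the frame complement. -/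
theorem exists_third [FiniteDimensional F V] (hdim : 5 ≤ Module.finrank F V) (y : V) :
    ∃ p, B a p = 0 ∧ B b p = 0 ∧ B y p = 0 ∧ ∀ t : F, p ≠ t • y := by
  let φ : V →ₗ[F] F × F × F := (B a).prod ((B b).prod (B y))
  have h1 := φ.finrank_range_add_finrank_ker
  have h2 : Module.finrank F φ.range ≤ 3 := (Submodule.finrank_le _).trans (by simp)
  have h3 : ¬ LinearMap.ker φ ≤ Submodule.span F {y} := fun h => by
    have h4 := (Submodule.finrank_mono h).trans (finrank_span_le_card ({y} : Set V))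
    simp at h4
    omega
  obtain ⟨p, hp, hpy⟩ := SetLike.not_le_iff_exists.1 h3
  simp [φ] at hp
  exact ⟨p, hp.1, hp.2.1, hp.2.2, fun t e => hpy (e ▸ Submodule.smul_mem _ t (Submodule.mem_span_singleton_self y))⟩

/-- The root groups at `a` and `b` share a quadratic form over the field of two elements. -/
theorem forms_two [FiniteDimensional F V] (hF : ∀ s : F, s = 0 ∨ s = 1) (hdim : 5 ≤ Module.finrank F V)
    (ha0 : NoTv B L a) (hb0 : NoTv B L b) (w : V) (hwa : B a w = 0) (hwb : B b w = 0) (k : F)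
    (hk : InL B L a w k) : InL B L b w k ∧ ∀ s : F, InL B L a (s • w) (s ^ 2 * k) := by
  have main : ∀ {a b : V}, Frame B L a b → ∀ y, B a y = 0 → B b y = 0 → InL B L a y 0 →
      InL B L b y 0 := by
    intro a b K y hya hyb hy0
    obtain ⟨l, hl⟩ := K.rootB y hyb
    rcases hF l with rfl | rfl
    · exact hl
    obtain ⟨p, hpa, hpb, hyp, hpy⟩ := K.exists_third hdim y
    obtain ⟨m, hm⟩ := K.rootB p hpb
    rcases hF m with rfl | rfl
    · exact K.zero_of_zero hF (fun e => hpy 0 (by rw [e, zero_smul])) hpa hpb hm hya hyb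
        (by rw [K.ctx.comm]; exact hyp) hy0
    refine K.zero_of_zero hF (z := p + y) ?_ (by simp [hpa, hya]) (by simp [hpb, hyb]) ?_ hya hyb
      (by simp [K.ctx.comm p y, hyp, K.ctx.self]) hy0
    · exact fun e => hpy 1 (by rw [one_smul]; simpa [K.ctx.vneg] using eq_neg_of_add_eq_zero_left e)
    · exact K.ctx.inL_congr (K.ctx.inL_add hm hl hpb hyb) (by rw [hyp, K.ctx.add_self, zero_add])
  refine ⟨?_, fun s => ?_⟩
  · obtain ⟨l, hl⟩ := K.rootB w hwb
    rcases hF k with rfl | rfl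
    · exact main K w hwa hwb hk
    rcases hF l with rfl | rfl
    · exact absurd (K.ctx.unique ha0 hwa hk (main K.swap w hwb hwa hl)) one_ne_zero
    · exact hl
  · rcases hF s with rfl | rfl
    · simpa using K.ctx.inL_zero a
    · simpa using hk

/-- The root groups at two non-orthogonal centres share one quadratic form. -/
theorem forms [Finite F] [FiniteDimensional F V]
    (hd : (∃ w₀ : F, w₀ ≠ 0 ∧ w₀ ≠ 1) ∨ 5 ≤ Module.finrank F V) (ha0 : NoTv B L a) (hb0 : NoTv B L b)
    (w : V) (hwa : B a w = 0) (hwb : B b w = 0) (k : F) (hk : InL B L a w k) :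
    InL B L b w k ∧ ∀ s : F, InL B L a (s • w) (s ^ 2 * k) := by
  by_cases hq : ∃ w₀ : F, w₀ ≠ 0 ∧ w₀ ≠ 1
  · obtain ⟨w₀, h01⟩ := hq
    by_cases hB : ∀ v, B a v = 0 → B b v = 0 → InL B L b v 0 → v = 0
    · by_cases hA : ∀ v, B a v = 0 → B b v = 0 → InL B L a v 0 → v = 0
      · exact K.forms_of_aniso h01 ha0 hb0 hA hB w hwa hwb k hk
      · push Not at hA
        obtain ⟨v, hva, hvb, hv0, hv⟩ := hA
        have hvb0 : InL B L b v 0 := by
          simpa using K.swap.zero_line hb0 h01 hvb hva hv0 1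
        exact K.forms_of_zero ha0 hb0 h01 hv hva hvb hvb0 w hwa hwb k hk
    · push Not at hB
      obtain ⟨v, hva, hvb, hv0, hv⟩ := hB
      exact K.forms_of_zero ha0 hb0 h01 hv hva hvb hv0 w hwa hwb k hk
  · push Not at hq
    exact K.forms_two (fun s => (eq_or_ne s 0).imp_right (hq s)) (hd.resolve_left (fun ⟨s, h, h'⟩ =>
      h' (hq s h))) ha0 hb0 w hwa hwb k hk

end Frame

end Cfsg.Agent.H96.TwoRoot
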