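import Cfsg.Agent.H96.TwoRoot.Orth

/-!
Irreducible symplectic groups in characteristic two containing a full root group modulo transvections.
-/

set_option autoImplicit false

namespace Cfsg.Agent.H96.TwoRoot

open LinearMap (BilinForm)
open Cfsg.Agent.Symplectic

variable {F V : Type*} [Field F] [AddCommGroup V] [Module F V]
variable {B : BilinForm F V} {L : Subgroup (V ≃ₗ[F] V)}

/-- Some image of a non-zero vector is non-orthogonal to a given one. -/
theorem Ctx.exists_move (C : Ctx B L) (hirr : ∀ W : Submodule F V, (∀ g ∈ L, ∀ w ∈ W, g w ∈ W) → W = ⊥ ∨ W = ⊤)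
    {a u : V} (ha : a ≠ 0) (hu : u ≠ 0) : ∃ g ∈ L, B a (g u) ≠ 0 := by
  by_contra hno
  push Not at hno
  let T := Submodule.span F (Set.range fun g : L => (g : V ≃ₗ[F] V) u)
  have hTu : u ∈ T := Submodule.subset_span ⟨1, rfl⟩
  have hT : T = ⊤ := by
    refine (hirr T fun g hg w hw => ?_).resolve_left (fun h => hu (by
      rwa [h, Submodule.mem_bot] at hTu))
    have : T.map (g : V →ₗ[F] V) ≤ T := by
      rw [Submodule.map_span, Submodule.span_le]
      rintro - ⟨-, ⟨h, rfl⟩, rfl⟩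
      exact Submodule.subset_span ⟨⟨g, hg⟩ * h, rfl⟩
    exact this (Submodule.mem_map_of_mem hw)
  have hle : T ≤ LinearMap.ker (B a) := by
    rw [Submodule.span_le]
    rintro - ⟨h, rfl⟩
    exact hno _ h.2
  exact ha (C.nd.1 a fun y => hle (hT ▸ trivial))

namespace Frame

variable {a b : V} (K : Frame B L a b)
include K

theorem exists_v₀ [FiniteDimensional F V] (hn : 4 ≤ Module.finrank F V) :
    ∃ v, v ≠ 0 ∧ B a v = 0 ∧ B b v = 0 := by
  have := K.hab
  let φ : V →ₗ[F] F × F := (B a).prod (B b)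
  have h1 := φ.finrank_range_add_finrank_ker
  have h2 : Module.finrank F φ.range ≤ 2 := (Submodule.finrank_le _).trans (by simp)
  have h3 : LinearMap.ker φ ≠ ⊥ := fun h => by
    rw [h, finrank_bot] at h1
    omega
  obtain ⟨v, hv, hv0⟩ := Submodule.exists_mem_ne_zero_of_ne_bot h3
  simp [φ] at hv
  exact ⟨v, hv0, hv.1, hv.2⟩

/-- Transvections at a centre give the whole symplectic group. -/
theorem eq_isom [Finite F] [FiniteDimensional F V] (hn : 4 ≤ Module.finrank F V) {la lb : F}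
    (hla : la ≠ 0) (ha : InL B L a 0 la) (hlb : lb ≠ 0) (hb : InL B L b 0 lb)
    (hirr : ∀ W : Submodule F V, (∀ g ∈ L, ∀ w ∈ W, g w ∈ W) → W = ⊥ ∨ W = ⊤) : L = Isom B := by
  classical
  have := Fintype.ofFinite F
  obtain ⟨v₀, hv₀, h₀a, h₀b⟩ := K.exists_v₀ hn
  have hA : ∀ l, InL B L a 0 l := fun l => K.full hv₀ h₀a h₀b hla ha hlb hb l
  have hBl : ∀ l, InL B L b 0 l := fun l => K.swap.full hv₀ h₀b h₀a hlb hb hla ha l
  have hane : a ≠ 0 := fun h => by simpa [h] using K.hab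
  have hne : ∀ d, B a d = 1 → ∀ l, InL B L d 0 l := by
    intro d hd l
    set x := d + b + B b d • a with hx
    have hxa : B a x = 0 := by simp [hx, hd, K.hab, K.ctx.self, K.ctx.add_self]
    have hxb : B b x = 0 := by simp [hx, K.hba, K.ctx.self, K.ctx.add_self]
    obtain ⟨p, hp⟩ := K.rootA x hxa
    obtain ⟨g, hg, eg⟩ : InL B L a x (B b d) := by
      have h := K.ctx.inL_add hp (hA (p + B b d)) hxa (map_zero _)
      rw [add_zero] at h
      refine K.ctx.inL_congr h ?_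
      simp
      linear_combination p * K.ctx.two
    have hgb : g b = d := by
      rw [eg]
      simp only [rtf, K.hba, hxb, one_smul, zero_add, mul_one]
      rw [hx]
      match_scalars <;> grind [K.ctx.two]
    have h := K.ctx.inL_conj (hBl l) hg
    rwa [hgb, map_zero] at h
  have hall : ∀ u, u ≠ 0 → ∀ l, InL B L u 0 l := by
    intro u hu l
    obtain ⟨g, hg, hgu⟩ := K.ctx.exists_move hirr hane hu
    have h := K.ctx.inL_center_smul hgu (hne ((B a (g u))⁻¹ • g u) (by simp [hgu]) (B a (g u) ^ 2 * l))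
    rw [smul_inv_smul₀ hgu, smul_zero] at h
    have h' := K.ctx.inL_conj h (L.inv_mem hg)
    rw [map_zero, show g⁻¹ (g u) = u from g.symm_apply_apply u] at h'
    refine K.ctx.inL_congr h' ?_
    field_simp
  refine le_antisymm K.ctx.le ?_
  rw [← isom_eq_closure K.ctx.nd K.ctx.alt, Subgroup.closure_le]
  rintro _ ⟨w, c, rfl⟩
  rcases eq_or_ne w 0 with rfl | hw
  · rw [show tv K.ctx.alt (0 : V) c = 1 from LinearEquiv.ext fun x => by simp]
    exact L.one_mem
  obtain ⟨g, hg, eg⟩ := hall w hw c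
  rw [show tv K.ctx.alt w c = g from LinearEquiv.ext fun x => by simp [eg, rtf]]
  exact hg

end Frame

/-- The overgroups of a root group without transvections, apart from the smallest case. -/
theorem overgroups [Finite F] [FiniteDimensional F V] (C : Ctx B L) {a : V} (ha : a ≠ 0)
    (hra : RootAt B L a) (hn : 4 ≤ Module.finrank F V)
    (hirr : ∀ W : Submodule F V, (∀ g ∈ L, ∀ w ∈ W, g w ∈ W) → W = ⊥ ∨ W = ⊤) :
    L = Isom B ∨
    (∃ Q : QuadraticForm F V, (∀ x y, QuadraticMap.polar Q x y = B x y) ∧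
      (L = Orthogonal.O Q ∨ ∀ g : V ≃ₗ[F] V, g ∈ L ↔ g ∈ Orthogonal.O Q ∧
        Even (Module.finrank F (LinearMap.range ((g : V →ₗ[F] V) - LinearMap.id))))) ∨
    ((∀ s : F, s = 0 ∨ s = 1) ∧ Module.finrank F V = 4 ∧
      ∃ b, Frame B L a b ∧ NoTv B L a ∧ NoTv B L b) := by
  obtain ⟨g, hg, hga⟩ := C.exists_move hirr ha ha
  set b := (B a (g a))⁻¹ • g a with hb
  have K : Frame B L a b :=
    ⟨C, by simp [hb, hga], hra, C.rootAt_smul (C.rootAt_conj hra hg) (inv_ne_zero hga)⟩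
  by_cases ha0 : NoTv B L a
  swap
  · simp only [NoTv, not_forall] at ha0
    obtain ⟨la, hla, hla0⟩ := ha0
    have h := C.inL_center_smul (inv_ne_zero hga) (C.inL_conj hla hg)
    rw [map_zero, smul_zero, inv_inv] at h
    exact Or.inl (K.eq_isom hn hla0 hla (mul_ne_zero (pow_ne_zero _ hga) hla0) h hirr)
  have hb0 : NoTv B L b := C.noTv_smul (C.noTv_conj ha0 hg) (inv_ne_zero hga)
  by_cases hsmall : (∀ s : F, s = 0 ∨ s = 1) ∧ Module.finrank F V = 4
  · exact Or.inr (Or.inr ⟨hsmall.1, hsmall.2, b, K, ha0, hb0⟩)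
  have hd : (∃ w₀ : F, w₀ ≠ 0 ∧ w₀ ≠ 1) ∨ 5 ≤ Module.finrank F V := by
    by_contra hc
    push Not at hc
    exact hsmall ⟨fun s => (eq_or_ne s 0).imp_right (hc.1 s), by omega⟩
  have hq : Nat.card F ≠ 2 ∨ Module.finrank F V ≠ 4 := by
    rcases hd with ⟨w₀, h0, h1⟩ | h
    · refine Or.inl fun h2 => ?_
      rw [Nat.card_eq_two_iff' 0] at h2
      exact h1 (h2.unique h0 one_ne_zero)
    · exact Or.inr (by omega)
  obtain ⟨Q, hpol, hQa, hQb, hA, hB⟩ := K.exists_form hd ha0 hb0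
  obtain ⟨v₀, hv₀, h₀a, h₀b⟩ := K.exists_v₀ hn
  exact Or.inr (Or.inl ⟨Q, hpol,
    (FormFrame.mk K ha0 hb0 hpol hQa hQb hA hB).classify hd hv₀ h₀a h₀b hn hq hirr⟩)

end Cfsg.Agent.H96.TwoRoot
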