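import Cfsg.Agent.H96.TwoRoot.Frame
import Cfsg.Agent.Orthogonal.Eichler
import Cfsg.Agent.H98.OrthMax.Roots

/-!
Without transvections the group lies in an orthogonal group and contains its Eichler transformations.
-/

set_option autoImplicit false

namespace Cfsg.Agent.H96.TwoRoot

open LinearMap (BilinForm)
open Cfsg.Agent.Symplectic
open scoped commutatorElement

variable {F V : Type*} [Field F] [AddCommGroup V] [Module F V]
variable {B : BilinForm F V} {L : Subgroup (V ≃ₗ[F] V)}

namespace Frame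

variable {a b : V} (K : Frame B L a b)
include K
set_option linter.unusedSectionVars false

/-- The shared form of the two root groups, extended to the whole space. -/
theorem exists_form [Finite F] [FiniteDimensional F V]
    (hd : (∃ w₀ : F, w₀ ≠ 0 ∧ w₀ ≠ 1) ∨ 5 ≤ Module.finrank F V) (ha0 : NoTv B L a) (hb0 : NoTv B L b) :
    ∃ Q : QuadraticForm F V, (∀ x y, QuadraticMap.polar Q x y = B x y) ∧ Q a = 0 ∧ Q b = 0 ∧
      (∀ w, B a w = 0 → InL B L a w (Q w)) ∧ (∀ w, B b w = 0 → InL B L b w (Q w)) := by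
  let π : V → V := fun x => x + B x b • a + B x a • b
  have hπa : ∀ x, B a (π x) = 0 := fun x => by
    simp [π, K.hab, K.ctx.self, K.ctx.comm x a, K.ctx.add_self]
  have hπb : ∀ x, B b (π x) = 0 := fun x => by
    simp [π, K.hba, K.ctx.self, K.ctx.comm x b, K.ctx.add_self]
  have hπadd : ∀ x y, π (x + y) = π x + π y := fun x y => by
    simp only [π, map_add, LinearMap.add_apply, add_smul]; abel
  have hπsmul : ∀ (s : F) x, π (s • x) = s • π x := fun s x => by
    simp only [π, map_smul, LinearMap.smul_apply, smul_eq_mul, smul_add, smul_smul]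
  choose ψ hψ using fun x => K.rootA (π x) (hπa x)
  have huniq : ∀ x l, InL B L a (π x) l → l = ψ x := fun x l h =>
    K.ctx.unique ha0 (hπa x) h (hψ x)
  have hshared : ∀ x, InL B L b (π x) (ψ x) ∧ ∀ s : F, InL B L a (s • π x) (s ^ 2 * ψ x) :=
    fun x => K.forms hd ha0 hb0 _ (hπa x) (hπb x) _ (hψ x)
  have hadd : ∀ x y, ψ (x + y) = ψ x + ψ y + B (π y) (π x) := fun x y =>
    (huniq _ _ (by rw [hπadd]; exact K.ctx.inL_add (hψ x) (hψ y) (hπa x) (hπa y))).symm
  have hsmul : ∀ (s : F) x, ψ (s • x) = s ^ 2 * ψ x := fun s x =>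
    (huniq _ _ (by rw [hπsmul]; exact (hshared x).2 s)).symm
  let Q : QuadraticForm F V :=
    { toFun := fun x => B x b * B x a + ψ x
      toFun_smul := fun s x => by simp [hsmul]; ring
      exists_companion' := ⟨B, fun x y => by
        rw [hadd, K.ctx.comm (π y)]
        simp [π, K.ctx.self, K.hab, K.hba, K.ctx.comm a x, K.ctx.comm a y, K.ctx.comm b x, K.ctx.comm b y]
        linear_combination (2 * (B x a * B y b + B x b * B y a)) * K.ctx.two⟩ }
  have hQ : ∀ x, Q x = B x b * B x a + ψ x := fun x => rfl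
  have hπw : ∀ w, π w + B w b • a + B w a • b = w := fun w => by
    simp only [π]
    match_scalars <;> first
      | ring1
      | linear_combination (B w b) * K.ctx.two
      | linear_combination (B w a) * K.ctx.two
  refine ⟨Q, fun x y => ?_, ?_, ?_, fun w hw => ?_, fun w hw => ?_⟩
  · rw [QuadraticMap.polar, hQ, hQ, hQ, hadd, K.ctx.comm (π y)]
    simp [π, K.ctx.self, K.hab, K.hba, K.ctx.comm a x, K.ctx.comm a y, K.ctx.comm b x, K.ctx.comm b y]
    linear_combination (2 * (B x a * B y b + B x b * B y a)) * K.ctx.two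
  · have h0 : π a = 0 := by simp [π, K.hab, K.ctx.self, K.ctx.vadd_self]
    rw [hQ, K.ctx.self, mul_zero, zero_add, ← huniq a 0 (by rw [h0]; exact K.ctx.inL_zero a)]
  · have h0 : π b = 0 := by simp [π, K.hba, K.ctx.self, K.ctx.vadd_self]
    rw [hQ, K.ctx.self, zero_mul, zero_add, ← huniq b 0 (by rw [h0]; exact K.ctx.inL_zero a)]
  · have hwa : B w a = 0 := by rw [K.ctx.comm]; exact hw
    have h := K.ctx.inL_shift (B w b) (hψ w)
    have e := hπw w
    rw [hwa, zero_smul, add_zero] at e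
    rw [e] at h
    simpa [hQ, hwa] using h
  · have hwb : B w b = 0 := by rw [K.ctx.comm]; exact hw
    have h := K.ctx.inL_shift (B w a) (hshared w).1
    have e := hπw w
    rw [hwb, zero_smul, add_zero] at e
    rw [e] at h
    simpa [hQ, hwb] using h

end Frame

/-- Two centres without transvections and their common form. -/
structure FormFrame (B : BilinForm F V) (L : Subgroup (V ≃ₗ[F] V)) (a b : V) (Q : QuadraticForm F V) :
    Prop extends Frame B L a b where
  a0 : NoTv B L a
  b0 : NoTv B L b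
  pol : ∀ x y, QuadraticMap.polar Q x y = B x y
  Qa : Q a = 0
  Qb : Q b = 0
  formA : ∀ w, B a w = 0 → InL B L a w (Q w)
  formB : ∀ w, B b w = 0 → InL B L b w (Q w)

namespace FormFrame

open Cfsg.Agent.Orthogonal

variable {a b : V} {Q : QuadraticForm F V} (K : FormFrame B L a b Q)
include K
set_option linter.unusedSectionVars false

theorem swap' : FormFrame B L b a Q :=
  ⟨K.toFrame.swap, K.b0, K.a0, K.pol, K.Qb, K.Qa, K.formB, K.formA⟩

theorem q_add (x y : V) : Q (x + y) = Q x + Q y + B x y := by rw [map_add_polar, K.pol]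

theorem q_of_inL {w : V} {l : F} (hw : B a w = 0) (h : InL B L a w l) : Q w = l :=
  K.ctx.unique K.a0 hw (K.formA w hw) h

variable [Finite F] [FiniteDimensional F V] (hd : (∃ w₀ : F, w₀ ≠ 0 ∧ w₀ ≠ 1) ∨ 5 ≤ Module.finrank F V)
  {v₀ : V} (hv₀ : v₀ ≠ 0) (h₀a : B a v₀ = 0) (h₀b : B b v₀ = 0)

include hd hv₀ h₀a h₀b

/-- A root centre `b + δ a` has `δ = 0`. -/
theorem delta_zero {δ : F} (hc : RootAt B L (b + δ • a)) (hc0 : NoTv B L (b + δ • a)) : δ = 0 := by
  by_cases hz : ∃ y, y ≠ 0 ∧ B a y = 0 ∧ B b y = 0 ∧ Q y = 0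
  · obtain ⟨y, hy, hya, hyb, hQy⟩ := hz
    have K' : Frame B L a (b + δ • a) :=
      ⟨K.ctx, by simp [K.hab, K.ctx.self], K.rootA, hc⟩
    have hy0 : InL B L a y 0 := hQy ▸ K.formA y hya
    obtain ⟨g, hg, eg⟩ := (K'.forms hd K.a0 hc0 y hya (by simp [hya, hyb]) 0 hy0).1
    obtain ⟨g', hg', eg'⟩ : InL B L b y 0 := hQy ▸ K.formB y hyb
    obtain ⟨f, hf, ef⟩ : InL B L a (δ • y) 0 := by
      have := K.formA (δ • y) (by simp [hya])
      rwa [qmap_smul, hQy, mul_zero] at this
    have hm : ∀ u, (g * g' * f) u = u + (δ * B u y) • y := fun u => by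
      show g (g' (f u)) = _
      rw [eg, eg', ef]
      simp only [rtf, map_add, map_smul, LinearMap.add_apply, LinearMap.smul_apply, smul_eq_mul,
        K.ctx.self, K.hab, K.hba, K.ctx.comm y a, hya, K.ctx.comm y b, hyb, zero_mul, mul_zero, add_zero,
        zero_add]
      match_scalars <;> grind [K.ctx.two]
    obtain ⟨w, hwa, hwb, hwy⟩ := K.toFrame.exists_pair hy hya hyb 1
    have hma : (g * g' * f) a = a := by simp [hm, hya]
    have h1 := K.ctx.inL_conj (K.formA w hwa) (L.mul_mem (L.mul_mem hg hg') hf)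
    rw [hma, hm w, hwy, mul_one] at h1
    have h2 := K.q_of_inL (by simp [hwa, hya]) h1
    rw [K.q_add, qmap_smul, hQy, map_smul, hwy, smul_eq_mul] at h2
    linear_combination h2
  · obtain ⟨w₀, h01⟩ : ∃ w₀ : F, w₀ ≠ 0 ∧ w₀ ≠ 1 := by
      by_contra hq
      push Not at hq
      have hF : ∀ s : F, s = 0 ∨ s = 1 := fun s => (eq_or_ne s 0).imp_right (hq s)
      have hdim := hd.resolve_left (fun ⟨s, h, h'⟩ => h' (hq s h))
      obtain ⟨p, hpa, hpb, hyp, hpy⟩ := K.toFrame.exists_third hdim v₀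
      rcases hF (Q v₀) with e | e
      · exact hz ⟨v₀, hv₀, h₀a, h₀b, e⟩
      rcases hF (Q p) with e' | e'
      · exact hz ⟨p, fun h => hpy 0 (by rw [h, zero_smul]), hpa, hpb, e'⟩
      refine hz ⟨p + v₀, fun h => hpy 1 ?_, by simp [hpa, h₀a], by simp [hpb, h₀b], ?_⟩
      · rw [one_smul]
        simpa [K.ctx.vneg] using eq_neg_of_add_eq_zero_left h
      · rw [K.q_add, e, e', K.ctx.comm, hyp, add_zero, K.ctx.add_self]
    push Not at hz
    refine K.a0 δ (K.toFrame.point_of_aniso h01 K.a0 K.b0 ?_ ?_ hv₀ h₀a h₀b hc hc0 (x := 0)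
      (map_zero _) (map_zero _) (by rw [add_zero]))
    · intro v hva hvb hv
      by_contra h
      exact hz v h hva hvb (K.q_of_inL hva hv)
    · intro v hva hvb hv
      by_contra h
      exact hz v h hva hvb (K.swap'.q_of_inL hvb hv)

/-- A root centre non-orthogonal to `a` is singular. -/
theorem singular_of_ne {c : V} (hc : RootAt B L c) (hc0 : NoTv B L c) (hac : B a c ≠ 0) : Q c = 0 := by
  set d := (B a c)⁻¹ • c with hd'
  suffices h : Q d = 0 by
    rw [hd', qmap_smul] at h
    exact (mul_eq_zero.1 h).resolve_left (pow_ne_zero _ (inv_ne_zero hac))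
  have hdr : RootAt B L d := K.ctx.rootAt_smul hc (inv_ne_zero hac)
  have hd0 : NoTv B L d := K.ctx.noTv_smul hc0 (inv_ne_zero hac)
  have had : B a d = 1 := by simp [hd', hac]
  clear_value d
  clear hd'
  set x := d + b + B b d • a with hx
  have hxa : B a x = 0 := by simp [hx, had, K.hab, K.ctx.self, K.ctx.add_self]
  have hxb : B b x = 0 := by simp [hx, K.hba, K.ctx.self, K.ctx.add_self]
  have hde : d = b + x + B b d • a := by
    rw [hx]; match_scalars <;> grind [K.ctx.two]
  clear_value x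
  clear hx
  obtain ⟨g, hg, eg⟩ := K.formA x hxa
  have hgd : g (b + (Q x + B b d) • a) = d := by
    rw [hde]
    simp only [eg, rtf, map_add, map_smul, LinearMap.add_apply, LinearMap.smul_apply, smul_eq_mul,
      K.ctx.self, K.hba, K.ctx.comm x a, hxa, hxb, zero_add, mul_zero, add_zero]
    match_scalars <;> grind [K.ctx.two]
  have hback : g⁻¹ d = b + (Q x + B b d) • a := g.injective (by
    rw [hgd]; exact g.apply_symm_apply d)
  have hδ : Q x + B b d = 0 := by
    refine K.delta_zero hd hv₀ h₀a h₀b ?_ ?_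
    · rw [← hback]; exact K.ctx.rootAt_conj hdr (L.inv_mem hg)
    · rw [← hback]; exact K.ctx.noTv_conj hd0 (L.inv_mem hg)
  rw [hde, K.q_add, K.q_add, qmap_smul, K.Qa, K.Qb, hxb]
  simp [K.hba, K.ctx.comm x a, hxa]
  linear_combination hδ

/-- Every root centre is singular. -/
theorem singular {c : V} (hc : RootAt B L c) (hc0 : NoTv B L c) : Q c = 0 := by
  rcases eq_or_ne c 0 with rfl | hcne
  · exact QuadraticMap.map_zero _
  by_cases hac : B a c = 0
  swap
  · exact K.singular_of_ne hd hv₀ h₀a h₀b hc hc0 hac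
  by_cases hbc : B b c = 0
  swap
  · exact K.swap'.singular_of_ne hd hv₀ h₀b h₀a hc hc0 hbc
  obtain ⟨w, hwa, hwb, hwc⟩ := K.toFrame.exists_pair hcne hac hbc 1
  obtain ⟨g, hg, eg⟩ := K.formB w hwb
  have hgc : g c = c + b := by
    simp [eg, rtf, K.ctx.comm c b, hbc, K.ctx.comm c w, hwc]
  have := K.singular_of_ne hd hv₀ h₀a h₀b (K.ctx.rootAt_conj hc hg) (K.ctx.noTv_conj hc0 hg)
    (by rw [hgc]; simp [hac, K.hab])
  rw [hgc, K.q_add, K.Qb, K.ctx.comm, hbc, add_zero, add_zero] at this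
  exact this

/-- An irreducible group lies in the orthogonal group of the form. -/
theorem le_orth (hirr : ∀ W : Submodule F V, (∀ g ∈ L, ∀ w ∈ W, g w ∈ W) → W = ⊥ ∨ W = ⊤) :
    L ≤ O Q := by
  let T := Submodule.span F (Set.range fun g : L => (g : V ≃ₗ[F] V) a)
  have hTa : a ∈ T := Submodule.subset_span ⟨1, rfl⟩
  have hane : a ≠ 0 := fun h => by simpa [h] using K.hab
  have hT : T = ⊤ := by
    refine (hirr T fun g hg w hw => ?_).resolve_left (fun h => hane (by
      rwa [h, Submodule.mem_bot] at hTa))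
    have : T.map (g : V →ₗ[F] V) ≤ T := by
      rw [Submodule.map_span, Submodule.span_le]
      rintro - ⟨-, ⟨h, rfl⟩, rfl⟩
      exact Submodule.subset_span ⟨⟨g, hg⟩ * h, rfl⟩
    exact this (Submodule.mem_map_of_mem hw)
  intro g hg x
  let S : Submodule F V :=
    { carrier := {x | Q (g x) = Q x}
      add_mem' := fun {x y} hx hy => by
        simp only [Set.mem_setOf_eq, map_add, K.q_add] at *
        rw [hx, hy, K.ctx.map_form hg]
      zero_mem' := by simp
      smul_mem' := fun s x hx => by simp only [Set.mem_setOf_eq, map_smul, qmap_smul] at *; rw [hx] }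
  have hS : T ≤ S := by
    rw [Submodule.span_le]
    rintro - ⟨h, rfl⟩
    show Q (g ((h : V ≃ₗ[F] V) a)) = Q ((h : V ≃ₗ[F] V) a)
    rw [K.singular hd hv₀ h₀a h₀b (K.ctx.rootAt_conj K.rootA h.2) (K.ctx.noTv_conj K.a0 h.2),
      K.singular hd hv₀ h₀a h₀b (K.ctx.rootAt_conj (K.ctx.rootAt_conj K.rootA h.2) hg)
        (K.ctx.noTv_conj (K.ctx.noTv_conj K.a0 h.2) hg)]
  exact hS (hT ▸ trivial)

/-- The group is the orthogonal group or the kernel of the Dickson invariant. -/
theorem classify (hn : 4 ≤ Module.finrank F V) (hq : Nat.card F ≠ 2 ∨ Module.finrank F V ≠ 4)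
    (hirr : ∀ W : Submodule F V, (∀ g ∈ L, ∀ w ∈ W, g w ∈ W) → W = ⊥ ∨ W = ⊤) :
    L = O Q ∨ ∀ g : V ≃ₗ[F] V, g ∈ L ↔ g ∈ O Q ∧
      Even (Module.finrank F (LinearMap.range ((g : V →ₗ[F] V) - LinearMap.id))) := by
  have hle := K.le_orth hd hv₀ h₀a h₀b hirr
  have hQ : Nondeg Q := fun x hx => K.ctx.nd.1 x fun y => by rw [← K.pol]; exact hx y
  set X : Subgroup (O Q) := L.comap (O Q).subtype with hX
  have hfull : ∀ u, (∀ w, B u w = 0 → InL B L u w (Q w)) → H98.OrthMax.Full X u := by
    intro u hu w hQu hw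
    obtain ⟨g, hg, eg⟩ := hu w (by rwa [← K.pol])
    have e : ((sie u w hQu hw : O Q) : V ≃ₗ[F] V) = g := LinearEquiv.ext fun x => by
      rw [eg, sie_app, rtf]
      simp only [K.pol, K.ctx.comm w x, K.ctx.comm u x]
      match_scalars <;> grind [K.ctx.two]
    show ((sie u w hQu hw : O Q) : V ≃ₗ[F] V) ∈ L
    rwa [e]
  have hsie : sieGroup Q ≤ X := H98.OrthMax.sieGroup_le_of_pair hQ (by omega) (hfull a K.formA)
    (hfull b K.formB) K.Qa K.Qb (by rw [K.pol, K.hab]; exact one_ne_zero)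
  have hgen := reflGroup_eq_top hQ hq
  -- all reflections are congruent modulo the Eichler group
  have := sieGroup_normal (Q := Q)
  set π := QuotientGroup.mk' (sieGroup Q) with hπ
  set r := rO Q (a + b) with hr
  have hQab : Q (a + b) = 1 := by rw [K.q_add, K.Qa, K.Qb, K.hab, zero_add, zero_add]
  have hrefl : ∀ v, Q v ≠ 0 → π (rO Q v) = π r := by
    intro v hv
    obtain ⟨s, hs⟩ := isSquare_of_two_eq_zero K.ctx.two (Q v)
    have hs0 : s ≠ 0 := fun e => hv (by rw [hs, e, mul_zero])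
    have h1 : Q (s⁻¹ • v) = 1 := by rw [qmap_smul, hs]; field_simp
    obtain ⟨g, hg, hgv⟩ := exists_sie_sphere hQ hn (v := s⁻¹ • v) K.Qa K.Qb
      (by rw [K.pol, K.hab]) (by rw [h1]; exact one_ne_zero)
    rw [h1, one_smul] at hgv
    have h2 : π g = 1 := (QuotientGroup.eq_one_iff g).2 hg
    rw [hr, ← hgv, ← conj_rO, map_mul, map_mul, map_inv, h2, one_mul, inv_one, mul_one,
      rO_smul (inv_ne_zero hs0)]
  have hcases : ∀ g : O Q, π g = 1 ∨ π g = π r := by
    have hstep : ∀ v y, (π y = 1 ∨ π y = π r) → (π (rO Q v * y) = 1 ∨ π (rO Q v * y) = π r) := by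
      intro v y hy
      by_cases hv : Q v = 0
      · rwa [rO_of_singular hv, one_mul]
      rw [map_mul, hrefl v hv]
      rcases hy with e | e <;> rw [e]
      · exact Or.inr (mul_one _)
      · exact Or.inl (by rw [← map_mul, rO_mul_self, map_one])
    intro g
    have hg : g ∈ reflGroup Q := by rw [hgen]; trivial
    induction hg using Subgroup.closure_induction_left with
    | one => exact Or.inl (map_one _)
    | mul_left x hx y _ hy => obtain ⟨v, rfl⟩ := hx; exact hstep v y hy
    | inv_mul_cancel x hx y _ hy => obtain ⟨v, rfl⟩ := hx; rw [rO_inv]; exact hstep v y hy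
  have hdec : ∀ g : O Q, g ∈ sieGroup Q ∨ g * r ∈ sieGroup Q := fun g =>
    (hcases g).imp (fun e => (QuotientGroup.eq_one_iff g).1 e) fun e => (QuotientGroup.eq_one_iff _).1 (by
      show π (g * r) = 1
      rw [map_mul, e, ← map_mul, rO_mul_self, map_one])
  by_cases hrX : r ∈ X
  · refine Or.inl (le_antisymm hle fun g hg => ?_)
    have : (⟨g, hg⟩ : O Q) ∈ X := (hdec ⟨g, hg⟩).elim (fun h => hsie h) fun h =>
      (Subgroup.mul_mem_cancel_right X hrX).1 (hsie h)
    exact this
  have hXsie : ∀ g ∈ X, g ∈ sieGroup Q := fun g hg => (hdec g).resolve_right fun h =>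
    hrX ((Subgroup.mul_mem_cancel_left X hg).1 (hsie h))
  have hker : (dickson hQ hgen).ker ≤ sieGroup Q := by
    rw [← commutator_eq_ker_dickson hQ hgen K.ctx.two, commutator_def, Subgroup.commutator_le]
    intro g _ h _
    refine (QuotientGroup.eq_one_iff _).1 ?_
    show π ⁅g, h⁆ = 1
    rw [map_commutatorElement, commutatorElement_eq_one_iff_mul_comm]
    rcases hcases g with e | e <;> rcases hcases h with e' | e' <;> simp [e, e']
  have hiff : ∀ g : O Q, g ∈ X ↔ dicksonSign g = 1 := by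
    refine fun g => ⟨fun hg => ?_, fun h => hsie (hker (by rwa [MonoidHom.mem_ker, dickson_apply]))⟩
    rcases Int.units_eq_one_or (dicksonSign g) with h | h
    · exact h
    exfalso
    refine hrX ((Subgroup.mul_mem_cancel_left X hg).1 (hsie (hker ?_)))
    rw [MonoidHom.mem_ker, map_mul, hr, dickson_rO hQ hgen (by rw [hQab]; exact one_ne_zero),
      dickson_apply, h]
    rfl
  have hpar : ∀ g : O Q, dicksonSign g = 1 ↔ Even (Module.finrank F
      (LinearMap.range (((g : V ≃ₗ[F] V) : V →ₗ[F] V) - LinearMap.id))) := by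
    intro g
    have h := LinearMap.finrank_range_add_finrank_ker (((g : V ≃ₗ[F] V) : V →ₗ[F] V) - LinearMap.id)
    rw [dicksonSign, neg_one_pow_eq_one_iff_even (by decide), fixSpace, ← h, Nat.even_add,
      Nat.even_add]
    tauto
  refine Or.inr fun g => ⟨fun hg => ⟨hle hg, ?_⟩, fun ⟨hg, he⟩ => ?_⟩
  · exact (hpar ⟨g, hle hg⟩).1 ((hiff ⟨g, hle hg⟩).1 hg)
  · exact (hiff ⟨g, hg⟩).2 ((hpar ⟨g, hg⟩).2 he)

end FormFrame

end Cfsg.Agent.H96.TwoRoot
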