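import Cfsg.Agent.H96.TwoRoot.Main

/-!
Normal two-subgroups of a point stabiliser consist of root elements.
-/

set_option autoImplicit false

namespace Cfsg.Agent.H96.TwoRoot

open LinearMap (BilinForm)
open Cfsg.Agent.Symplectic

variable {F V : Type*} [Field F] [AddCommGroup V] [Module F V]
variable {B : BilinForm F V}

/-- A normal two-subgroup of the stabiliser of `a` moves `a⊥` only along `a`. -/
theorem sub_along [Finite F] [FiniteDimensional F V] (C : Ctx B (Isom B)) {a b : V} (hab : B a b = 1)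
    (hn : 3 ≤ Module.finrank F V) (P : Subgroup (V ≃ₗ[F] V)) (hP : IsPGroup 2 P) (hle : P ≤ Isom B)
    (hfix : ∀ p ∈ P, p a = a)
    (hnorm : ∀ h ∈ Isom B, h a = a → ∀ p ∈ P, h⁻¹ * p * h ∈ P)
    {p : V ≃ₗ[F] V} (hp : p ∈ P) {y : V} (hy : B a y = 0) : ∃ l : F, p y = y + l • a := by
  classical
  have : Finite V := Module.finite_of_finite F
  have : Fact (Nat.Prime 2) := ⟨Nat.prime_two⟩
  have hba : B b a = 1 := by rw [C.comm]; exact hab
  let W : Submodule F V := LinearMap.ker (B a) ⊓ LinearMap.ker (B b)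
  have hW : ∀ {z}, z ∈ W ↔ B a z = 0 ∧ B b z = 0 := fun {z} => by simp [W]
  have hpz : ∀ q ∈ P, ∀ z, B a z = 0 → B a (q z) = 0 := fun q hq z hz => by
    have h := C.map_form (hle hq) a z
    rwa [hfix q hq, hz] at h
  have hpi : ∀ q ∈ P, ∀ z ∈ W, q z + B b (q z) • a ∈ W := fun q hq z hz =>
    hW.2 ⟨by simp [hpz q hq z (hW.1 hz).1, C.self], by simp [hba, C.add_self]⟩
  letI : MulAction P W :=
    { smul := fun q z => ⟨(q : V ≃ₗ[F] V) z + B b ((q : V ≃ₗ[F] V) z) • a, hpi _ q.2 _ z.2⟩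
      one_smul := fun z => Subtype.ext (by
        show (z : V) + B b (z : V) • a = z
        rw [(hW.1 z.2).2, zero_smul, add_zero])
      mul_smul := fun q q' z => Subtype.ext (by
        show (q : V ≃ₗ[F] V) ((q' : V ≃ₗ[F] V) z) + B b ((q : V ≃ₗ[F] V) ((q' : V ≃ₗ[F] V) z)) • a = _
        show _ = (q : V ≃ₗ[F] V) ((q' : V ≃ₗ[F] V) z + B b ((q' : V ≃ₗ[F] V) z) • a) +
          B b ((q : V ≃ₗ[F] V) ((q' : V ≃ₗ[F] V) z + B b ((q' : V ≃ₗ[F] V) z) • a)) • a
        rw [map_add, map_smul, hfix _ q.2, map_add, map_smul, hba, smul_eq_mul, mul_one, add_smul]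
        match_scalars <;> grind [C.two]) }
  obtain ⟨y₀, hy₀, hy₀W⟩ : ∃ y₀, y₀ ≠ 0 ∧ y₀ ∈ W := by
    have hne : W ≠ ⊥ := fun h => by
      let φ : V →ₗ[F] F × F := (B a).prod (B b)
      have h1 := φ.finrank_range_add_finrank_ker
      have h2 : Module.finrank F φ.range ≤ 2 := (Submodule.finrank_le _).trans (by simp)
      have h3 : LinearMap.ker φ = W := by simp [φ, W]
      rw [h3, h, finrank_bot] at h1
      omega
    obtain ⟨y₀, h1, h2⟩ := Submodule.exists_mem_ne_zero_of_ne_bot hne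
    exact ⟨y₀, h2, h1⟩
  have h2 : 2 ∣ Nat.card W := by
    have h : addOrderOf (⟨y₀, hy₀W⟩ : W) = 2 := addOrderOf_eq_prime
      (Subtype.ext (by rw [two_nsmul]; exact C.vadd_self y₀)) (fun e => hy₀ (congrArg Subtype.val e))
    exact h ▸ addOrderOf_dvd_natCard _
  obtain ⟨⟨e, heW⟩, he, he0⟩ := hP.exists_fixed_point_of_prime_dvd_card_of_fixed_point W h2 (a := 0)
    fun q => Subtype.ext (show (q : V ≃ₗ[F] V) 0 + B b ((q : V ≃ₗ[F] V) 0) • a = 0 by simp)
  have hene : e ≠ 0 := fun h => he0 (Subtype.ext h.symm)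
  -- the vectors moved along `a`
  let U : Submodule F V :=
    { carrier := {z | ∀ q ∈ P, ∃ l : F, q z = z + l • a}
      add_mem' := fun {x z} hx hz q hq => by
        obtain ⟨l, hl⟩ := hx q hq
        obtain ⟨m, hm⟩ := hz q hq
        exact ⟨l + m, by rw [map_add, hl, hm, add_smul]; abel⟩
      zero_mem' := fun q _ => ⟨0, by simp⟩
      smul_mem' := fun s x hx q hq => by
        obtain ⟨l, hl⟩ := hx q hq
        exact ⟨s * l, by rw [map_smul, hl, smul_add, smul_smul]⟩ }
  have heU : e ∈ U := fun q hq => by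
    refine ⟨B b (q e), ?_⟩
    have h := congrArg Subtype.val (he ⟨q, hq⟩)
    change q e + B b (q e) • a = e at h
    nth_rw 2 [← h]
    rw [add_assoc, C.vadd_self, add_zero]
  have hmove : ∀ h ∈ Isom B, h a = a → ∀ z ∈ U, h z ∈ U := fun h hh hha z hz q hq => by
    obtain ⟨l, hl⟩ := hz _ (hnorm h hh hha q hq)
    refine ⟨l, ?_⟩
    have h3 : q (h z) = h ((h⁻¹ * q * h) z) := (h.apply_symm_apply _).symm
    rw [h3, hl, map_add, map_smul, hha]
  have hbig : ∀ u, B a u = 0 → B u e ≠ 0 → u ∈ U := fun u hu hue => by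
    have h1 := hmove _ (tv_mem C.alt u (1 : F)) (by simp [hu]) e heU
    rw [tv_apply, one_mul] at h1
    have h3 := U.sub_mem h1 heU
    rw [add_sub_cancel_left] at h3
    have h4 := U.smul_mem (B e u)⁻¹ h3
    rwa [inv_smul_smul₀ (by rwa [C.comm])] at h4
  obtain ⟨u₀, hu₀a, hu₀e⟩ : ∃ u, B a u = 0 ∧ B u e ≠ 0 := by
    by_contra hno
    push Not at hno
    refine hene (C.nd.2 e fun z => ?_)
    have := hno (z + B a z • b) (by simp [hab, C.add_self])
    simpa [(hW.1 heW).2] using this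
  suffices h : y ∈ U from h p hp
  by_cases hye : B y e = 0
  · have h1 := U.sub_mem (hbig (y + u₀) (by simp [hy, hu₀a]) (by simp [hye, hu₀e])) (hbig u₀ hu₀a hu₀e)
    rwa [add_sub_cancel_right] at h1
  · exact hbig y hy hye

/-- A large transvection-free subgroup of such a group is a full root group. -/
theorem rootAt_of_card [Finite F] [FiniteDimensional F V] (C : Ctx B (Isom B)) {a : V} (ha : a ≠ 0)
    (hn : 3 ≤ Module.finrank F V) (P : Subgroup (V ≃ₗ[F] V)) (hP : IsPGroup 2 P) (hle : P ≤ Isom B)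
    (hfix : ∀ p ∈ P, p a = a)
    (hnorm : ∀ h ∈ Isom B, h a = a → ∀ p ∈ P, h⁻¹ * p * h ∈ P)
    (X : Subgroup (V ≃ₗ[F] V)) (hXP : X ≤ P)
    (hcard : Nat.card X = Nat.card F ^ (Module.finrank F V - 2))
    (hntv : ∀ g ∈ X, ∀ m : F, m ≠ 0 → ¬ ∀ x, g x = rtf B a 0 m x) : RootAt B X a := by
  classical
  have : Finite V := Module.finite_of_finite F
  obtain ⟨b, hab⟩ := Symplectic.exists_partner C.nd C.alt ha
  have hba : B b a = 1 := by rw [C.comm]; exact hab
  have CX : Ctx B X := ⟨C.two, C.alt, C.nd, hXP.trans hle⟩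
  let W : Submodule F V := LinearMap.ker (B a) ⊓ LinearMap.ker (B b)
  have hW : ∀ {z}, z ∈ W ↔ B a z = 0 ∧ B b z = 0 := fun {z} => by simp [W]
  have hshape : ∀ g ∈ X, ∃ w : W, ∃ l : F, ∀ x, g x = rtf B a (w : V) l x := by
    intro g hg
    have hgP := hXP hg
    have hga := hfix g hgP
    set w₀ := g b + b with hw₀
    have hw₀a : B a w₀ = 0 := by
      have h := C.map_form (hle hgP) a b
      rw [hga] at h
      rw [hw₀, map_add, h, C.add_self]
    refine ⟨⟨w₀ + B b w₀ • a, hW.2 ⟨by simp [hw₀a, C.self], by simp [hba, C.add_self]⟩⟩,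
      B b w₀, fun x => ?_⟩
    obtain ⟨z, hza, hx⟩ : ∃ z, B a z = 0 ∧ x = z + B a x • b :=
      ⟨x + B a x • b, by simp [hab, C.add_self], by rw [add_assoc, C.vadd_self, add_zero]⟩
    obtain ⟨m, hm⟩ := sub_along C hab hn P hP hle hfix hnorm hgP hza
    have hgb : g b = b + w₀ := by
      rw [hw₀, add_comm (g b), ← add_assoc, C.vadd_self, zero_add]
    have hme : m = B z w₀ := by
      have h := C.map_form (hle hgP) z b
      rw [hm, hgb] at h
      simp only [map_add, map_smul, LinearMap.add_apply, LinearMap.smul_apply, smul_eq_mul,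
        hab, hw₀a] at h
      linear_combination h - (B z w₀) * C.two
    generalize hs : B a x = s at hx
    rw [hx, map_add, map_smul, hm, hgb, hme]
    simp only [rtf, map_add, map_smul, LinearMap.add_apply, LinearMap.smul_apply, smul_eq_mul,
      C.comm z a, hza, hba]
    match_scalars <;> grind [C.two]
  choose W' Λ hWΛ using hshape
  let ψ : X → W := fun g => W' g.1 g.2
  have hψ : Function.Injective ψ := by
    rintro ⟨g, hg⟩ ⟨g', hg'⟩ (e : W' g hg = W' g' hg')
    have h1 : InL B X a (W' g hg : V) (Λ g hg) := ⟨g, hg, hWΛ g hg⟩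
    have h2 : InL B X a (W' g hg : V) (Λ g' hg') := ⟨g', hg', by rw [e]; exact hWΛ g' hg'⟩
    have hl : Λ g hg = Λ g' hg' := by
      refine CX.unique (fun l hl => ?_) (hW.1 (W' g hg).2).1 h1 h2
      obtain ⟨k, hk, ek⟩ := hl
      by_contra hl0
      exact hntv k hk l hl0 ek
    exact Subtype.ext (LinearEquiv.ext fun x => by rw [hWΛ g hg x, hWΛ g' hg' x, e, hl])
  have hdimW : Module.finrank F W = Module.finrank F V - 2 := by
    let φ : V →ₗ[F] F × F := (B a).prod (B b)
    have h1 := φ.finrank_range_add_finrank_ker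
    have h2 : LinearMap.range φ = ⊤ := LinearMap.range_eq_top.2 fun st =>
      ⟨st.1 • b + st.2 • a, by simp [φ, hab, hba, C.self]⟩
    have h3 : LinearMap.ker φ = W := by simp [φ, W]
    rw [h2, finrank_top, h3, Module.finrank_prod, Module.finrank_self] at h1
    omega
  have hbij : Function.Bijective ψ := (Nat.bijective_iff_injective_and_card ψ).2
    ⟨hψ, by rw [hcard, ← hdimW, Module.natCard_eq_pow_finrank (K := F) (V := W)]⟩
  intro w hw
  obtain ⟨⟨g, hg⟩, hge⟩ := hbij.2 ⟨w + B b w • a, hW.2 ⟨by simp [hw, C.self], by simp [hba, C.add_self]⟩⟩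
  have h1 : InL B X a (w + B b w • a) (Λ g hg) := ⟨g, hg, fun x => by
    rw [hWΛ g hg x, show ((W' g hg : W) : V) = w + B b w • a from congrArg Subtype.val hge]⟩
  have h2 := CX.inL_shift (B b w) h1
  rw [add_assoc, C.vadd_self, add_zero] at h2
  exact ⟨_, h2⟩

end Cfsg.Agent.H96.TwoRoot
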