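import Cfsg.Agent.H98.PermIndex

/-!
Subgroups of order above ninety in the symmetric group of degree six.
-/

set_option autoImplicit false

namespace Cfsg.Agent.H96.TwoRoot

open Equiv MulAction

/-- A point stabiliser in degree six is the symmetric group of degree five. -/
theorem stab_six_equiv {β : Type*} [Fintype β] [DecidableEq β] (hβ : Fintype.card β = 6) (q : β) :
    Nonempty (stabilizer (Perm β) q ≃* Perm (Fin 5)) := by
  have h5 : Fintype.card {x : β // x ≠ q} = 5 := by simp [hβ]
  let e : stabilizer (Perm β) q ≃* Perm {x : β // x ≠ q} :=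
    { toFun := fun g => Equiv.Perm.subtypePerm g.1 fun x => by
        have hg : g.1 q = q := g.2
        constructor
        · intro h e; exact h (by rw [e, hg])
        · intro h e; exact h (g.1.injective (e.trans hg.symm))
      invFun := fun h => ⟨Equiv.Perm.ofSubtype h, by
        show Equiv.Perm.ofSubtype h q = q
        exact Equiv.Perm.ofSubtype_apply_of_not_mem h (fun e => e rfl)⟩
      left_inv := fun g => by
        refine Subtype.ext (Equiv.ext fun x => ?_)
        by_cases hx : x = q
        · subst hx
          rw [Equiv.Perm.ofSubtype_apply_of_not_mem _ (fun e => e rfl)]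
          exact g.2.symm
        · rw [Equiv.Perm.ofSubtype_apply_of_mem (p := fun y => y ≠ q) _ hx]; rfl
      right_inv := fun h => Equiv.ext fun x => Subtype.ext (by
        simp [Equiv.Perm.ofSubtype_apply_coe])
      map_mul' := fun g h => Equiv.ext fun x => Subtype.ext rfl }
  exact ⟨e.trans (Fintype.equivFinOfCardEq h5).permCongrHom⟩

/-- Such subgroups are the whole group, the alternating group or of degree five. -/
theorem six_cases (H : Subgroup (Perm (Fin 6))) (hH : 90 < Nat.card H) :
    H = ⊤ ∨ Nonempty (H ≃* alternatingGroup (Fin 6)) ∨ Nonempty (H ≃* Perm (Fin 5)) := by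
  classical
  have hmul := H.card_mul_index
  rw [Nat.card_perm, Nat.card_eq_fintype_card (α := Fin 6), Fintype.card_fin,
    show Nat.factorial 6 = 720 from rfl] at hmul
  have hi : H.index < 8 := by
    by_contra h
    push Not at h
    nlinarith [Nat.mul_le_mul hH h]
  have hi0 : 0 < H.index := Nat.pos_of_ne_zero fun h => by simp [h] at hmul
  by_cases h1 : H.index = 1
  · exact Or.inl (Subgroup.index_eq_one.1 h1)
  by_cases h2 : H.index = 2
  · exact Or.inr (Or.inl ⟨MulEquiv.subgroupCongr (Equiv.Perm.eq_alternatingGroup_of_index_eq_two h2)⟩)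
  by_cases h6 : H.index = 6
  · obtain ⟨ψ, q, hq⟩ := H98.exists_coset_iso H (by rw [h6, Fintype.card_fin]) (by simp)
    have hcard : Fintype.card (Perm (Fin 6) ⧸ H) = 6 := by
      rw [← Nat.card_eq_fintype_card, ← Subgroup.index_eq_card, h6]
    obtain ⟨e⟩ := stab_six_equiv hcard q
    let f : H ≃* stabilizer (Perm (Perm (Fin 6) ⧸ H)) q :=
      (ψ.subgroupMap H).trans (MulEquiv.subgroupCongr (by
        ext x
        constructor
        · rintro ⟨g, hg, rfl⟩
          exact (hq g).1 hg
        · intro hx
          exact ⟨ψ.symm x, (hq _).2 (by rw [ψ.apply_symm_apply]; exact hx), ψ.apply_symm_apply x⟩))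
    exact Or.inr (Or.inr ⟨f.trans e⟩)
  exfalso
  let f := MulAction.toPermHom (Perm (Fin 6)) (Perm (Fin 6) ⧸ H)
  have hker : f.ker ≠ ⊥ := by
    intro h
    have hinj := (MonoidHom.ker_eq_bot_iff f).1 h
    have := Nat.card_le_card_of_injective f hinj
    rw [Nat.card_perm, Nat.card_perm, Nat.card_eq_fintype_card (α := Fin 6), Fintype.card_fin,
      ← Subgroup.index_eq_card] at this
    have h7 : H.index ≤ 5 := by
      interval_cases h : H.index <;> omega
    have h8 := Nat.factorial_le h7
    simp only [Nat.factorial] at this h8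
    omega
  have hA : alternatingGroup (Fin 6) ≤ f.ker :=
    Equiv.Perm.alternatingGroup_le_of_normal (by simp) ((Subgroup.nontrivial_iff_ne_bot _).2 hker)
  have hAH : alternatingGroup (Fin 6) ≤ H := fun g hg => by
    rw [← stabilizer_quotient H, mem_stabilizer_iff]
    show f g ((1 : Perm (Fin 6)) : Perm (Fin 6) ⧸ H) = _
    rw [MonoidHom.mem_ker.1 (hA hg)]
    rfl
  have h9 := Subgroup.index_dvd_of_le hAH
  rw [alternatingGroup.index_eq_two] at h9
  have := Nat.le_of_dvd two_pos h9
  omega

end Cfsg.Agent.H96.TwoRoot
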