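import Mathlib

/-!
Computations with the linear maps of a symplectic four-space over the field of two elements, coded by natural numbers.
-/

set_option autoImplicit false

namespace Cfsg.Agent.H96.TwoRoot.Code

/-- vector from bits -/
def mk (p q r s : Bool) : ℕ := p.toNat + 2 * q.toNat + 4 * r.toNat + 8 * s.toNat

/-- the alternating form on codes -/
def bf (x y : ℕ) : Bool :=
  ((x.testBit 0 && y.testBit 2) ^^ (x.testBit 2 && y.testBit 0)) ^^
    ((x.testBit 1 && y.testBit 3) ^^ (x.testBit 3 && y.testBit 1))

/-- scale a code by a bit -/
def sc (p : Bool) (x : ℕ) : ℕ := bif p then x else 0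

/-- matrix from columns -/
def enc (i j k l : ℕ) : ℕ := i + 16 * j + 256 * k + 4096 * l

/-- column -/
def col (m j : ℕ) : ℕ := (m / 16 ^ j) % 16

/-- apply -/
def app (m x : ℕ) : ℕ :=
  ((sc (x.testBit 0) (col m 0) ^^^ sc (x.testBit 1) (col m 1)) ^^^ sc (x.testBit 2) (col m 2)) ^^^
    sc (x.testBit 3) (col m 3)

/-- composition -/
def comp (m n : ℕ) : ℕ := enc (app m (col n 0)) (app m (col n 1)) (app m (col n 2)) (app m (col n 3))

/-- a root element on codes -/
def rf (c u : ℕ) (l : Bool) (x : ℕ) : ℕ :=
  (x ^^^ sc (bf x c) u) ^^^ sc (bf x u ^^ (l && bf x c)) c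

/-- code of a root element -/
def rm (c u : ℕ) (l : Bool) : ℕ := enc (rf c u l 1) (rf c u l 2) (rf c u l 4) (rf c u l 8)

/-- the four generators -/
def gens (p q r s : Bool) : List ℕ := [rm 1 2 p, rm 1 8 q, rm 4 2 r, rm 4 8 s]

/-- append the new elements -/
def ins : List ℕ → List ℕ → List ℕ
  | acc, [] => acc
  | acc, x :: xs => bif acc.contains x then ins acc xs else ins (x :: acc) xs

/-- breadth first closure -/
def close (G : List ℕ) : ℕ → List ℕ → List ℕ → List ℕ
  | 0, acc, _ => acc
  | k + 1, acc, fr =>
    bif Nat.blt 90 acc.length || fr.isEmpty then acc else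
      let new := fr.flatMap fun m => G.map fun g => comp m g
      let acc' := ins acc new
      close G k acc' (acc'.take (acc'.length - acc.length))

/-- the identity -/
def idc : ℕ := enc 1 2 4 8

/-- the generated set, cut off beyond ninety elements -/
def span (p q r s : Bool) : List ℕ := close (gens p q r s) 24 [idc] [idc]

/-- the quadratic form on codes -/
def qf (p q : Bool) (x : ℕ) : Bool :=
  (((x.testBit 0 && x.testBit 2) ^^ (x.testBit 1 && x.testBit 3)) ^^ (p && x.testBit 1)) ^^
    (q && x.testBit 3)

/-- maps preserving the form and a function -/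
def cands (f : ℕ → Bool) : List ℕ :=
  ((List.range 16).filter fun i => f i == f 1).flatMap fun i =>
  ((List.range 16).filter fun j => (f j == f 2) && !bf i j).flatMap fun j =>
  ((List.range 16).filter fun k => (f k == f 4) && (bf i k && !bf j k)).flatMap fun k =>
  ((List.range 16).filter fun l => (f l == f 8) && (bf j l && (!bf i l && !bf k l))).map fun l =>
    enc i j k l

/-- the fixed space has even codimension -/
def evenFix (m : ℕ) : Bool :=
  let n := ((List.range 16).filter fun x => app m x == x).length
  n == 1 || (n == 4 || n == 16)

/-- preservation of the form -/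
def pres (p q : Bool) (m : ℕ) : Bool := (List.range 16).all fun x => qf p q (app m x) == qf p q x

/-- the facts for distinct forms -/
def chkDiff (p q r s : Bool) : Bool :=
  decide (90 < (span p q r s).length) && decide (span p q r s).Nodup

/-- the facts for equal forms -/
def chkSame (p q : Bool) : Bool :=
  let K := span p q p q
  let O := cands (qf p q)
  (((decide K.Nodup && decide (36 ≤ K.length)) && (K.all fun k => K.all fun k' => K.contains (comp k k'))) &&
    ((gens p q p q).all fun g => K.contains g)) &&
  (((K.all fun k => pres p q k) && (O.all fun c => K.contains c == evenFix c)) &&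
    (O.all fun c => evenFix c || (O.all fun c' => evenFix c' || K.contains (comp c c'))))

/-- elements moving the form enlarge the group -/
def chkMove (p q : Bool) : Bool :=
  let K := span p q p q
  (cands fun _ => false).all fun c => pres p q c ||
    (gens p q p q).any fun g => !(K.map fun k => comp k c).contains (comp c g)

theorem diff_ok : ∀ p q r s : Bool, (p = r ∧ q = s) ∨ chkDiff p q r s = true := by
  decide +kernel

theorem same_ok : ∀ p q : Bool, chkSame p q = true := by
  decide +kernel

theorem move_ok : ∀ p q : Bool, chkMove p q = true := by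
  decide +kernel

end Cfsg.Agent.H96.TwoRoot.Code
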