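import Cfsg.Agent.H96.TwoRoot.Main
import Cfsg.Agent.H96.TwoRoot.SmallCode

/-!
The four-dimensional case over the field of two elements.
-/

set_option autoImplicit false

namespace Cfsg.Agent.H96.TwoRoot

open LinearMap (BilinForm)
open Cfsg.Agent.Symplectic
open Code

theorem mem_ins : ∀ (acc xs : List ℕ) (x : ℕ), x ∈ ins acc xs → x ∈ acc ∨ x ∈ xs
  | acc, [], x, h => Or.inl h
  | acc, y :: ys, x, h => by
    rw [ins] at h
    cases hc : acc.contains y <;> simp only [hc, cond_true, cond_false] at h
    · rcases mem_ins _ _ _ h with h' | h'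
      · rcases List.mem_cons.1 h' with rfl | h''
        · exact Or.inr (List.mem_cons_self ..)
        · exact Or.inl h''
      · exact Or.inr (List.mem_cons_of_mem _ h')
    · exact (mem_ins _ _ _ h).imp_right (List.mem_cons_of_mem _)

theorem close_forall {P : ℕ → Prop} {G : List ℕ} (hG : ∀ m, P m → ∀ g ∈ G, P (comp m g)) :
    ∀ (k : ℕ) (acc fr : List ℕ), (∀ m ∈ acc, P m) → (∀ m ∈ fr, P m) → ∀ m ∈ close G k acc fr, P m
  | 0, acc, fr, hacc, _, m, hm => hacc m hm
  | k + 1, acc, fr, hacc, hfr, m, hm => by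
    rw [close] at hm
    cases hc : (Nat.blt 90 acc.length || fr.isEmpty) <;> simp only [hc, cond_true, cond_false] at hm
    · have h' : ∀ x ∈ ins acc (fr.flatMap fun m => G.map fun g => comp m g), P x := by
        intro x hx
        rcases mem_ins _ _ _ hx with h | h
        · exact hacc x h
        · obtain ⟨y, hy, hxy⟩ := List.mem_flatMap.1 h
          obtain ⟨g, hg, rfl⟩ := List.mem_map.1 hxy
          exact hG y (hfr y hy) g hg
      exact close_forall hG k _ _ h' (fun x hx => h' x (List.mem_of_mem_take hx)) m hm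
    · exact hacc m hm

variable {F V : Type*} [Field F] [AddCommGroup V] [Module F V]
variable {B : BilinForm F V} {L : Subgroup (V ≃ₗ[F] V)}

/-- A symplectic basis of a four-space over the field of two elements. -/
structure Four (B : BilinForm F V) (a v b w : V) : Prop where
  two : ∀ s : F, s = 0 ∨ s = 1
  dim : Module.finrank F V = 4
  alt : B.IsAlt
  ab : B a b = 1
  vw : B v w = 1
  av : B a v = 0
  aw : B a w = 0
  bv : B b v = 0
  bw : B b w = 0

open Classical in
/-- the bit of a scalar -/
noncomputable def bit (s : F) : Bool := if s = 0 then false else true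

theorem bit_zero : bit (0 : F) = false := by simp [bit]

theorem bit_one : bit (1 : F) = true := by simp [bit]

theorem testBit_mk : ∀ p q r s : Bool, (mk p q r s).testBit 0 = p ∧ (mk p q r s).testBit 1 = q ∧
    (mk p q r s).testBit 2 = r ∧ (mk p q r s).testBit 3 = s := by decide

theorem mk_xor : ∀ p q r s p' q' r' s' : Bool,
    mk (p ^^ p') (q ^^ q') (r ^^ r') (s ^^ s') = mk p q r s ^^^ mk p' q' r' s' := by decide

theorem mk_lt : ∀ p q r s : Bool, mk p q r s < 16 := by decide

theorem mk_bits : ∀ i : ℕ, i < 16 →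
    mk (i.testBit 0) (i.testBit 1) (i.testBit 2) (i.testBit 3) = i := by decide

theorem col_enc {i j k l : ℕ} (hi : i < 16) (hj : j < 16) (hk : k < 16) (hl : l < 16) :
    col (enc i j k l) 0 = i ∧ col (enc i j k l) 1 = j ∧ col (enc i j k l) 2 = k ∧
      col (enc i j k l) 3 = l := by
  simp [col, enc]; omega

namespace Four

variable {a v b w : V} (R : Four B a v b w)
include R
set_option linter.unusedSectionVars false

theorem h2 : (2 : F) = 0 := by
  rcases R.two 2 with h | h
  · exact h
  · exact absurd (show (1 : F) = 0 by linear_combination h) one_ne_zero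

theorem bit_add (s t : F) : bit (s + t) = (bit s ^^ bit t) := by
  rcases R.two s with rfl | rfl <;> rcases R.two t with rfl | rfl <;>
    simp [bit_zero, bit_one, one_add_one_eq_two, R.h2]

theorem bit_mul (s t : F) : bit (s * t) = (bit s && bit t) := by
  rcases R.two s with rfl | rfl <;> rcases R.two t with rfl | rfl <;> simp [bit_zero, bit_one]

theorem bit_inj {s t : F} (h : bit s = bit t) : s = t := by
  rcases R.two s with rfl | rfl <;> rcases R.two t with rfl | rfl <;> simp_all [bit_zero, bit_one]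

theorem self (x : V) : B x x = 0 := alt_self R.alt x

theorem comm (x y : V) : B x y = B y x := by
  rw [alt_swap R.alt x y]
  linear_combination (-(B y x)) * R.h2

variable [FiniteDimensional F V]

/-- coordinates -/
theorem decomp (x : V) : B x b • a + B x w • v + B x a • b + B x v • w = x := by
  let T : V →ₗ[F] Fin 4 → F := LinearMap.pi ![B.flip b, B.flip w, B.flip a, B.flip v]
  have hT : ∀ c : Fin 4 → F, T (c 0 • a + c 1 • v + c 2 • b + c 3 • w) = c := by
    intro c
    funext i
    fin_cases i <;>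
      simp [T, R.self, R.ab, R.vw, R.av, R.aw, R.bv, R.bw, R.comm v a, R.comm w a, R.comm b a,
        R.comm v b, R.comm w b, R.comm w v]
  have hinj : Function.Injective T :=
    (LinearMap.injective_iff_surjective_of_finrank_eq_finrank (by simp [R.dim])).2
      fun c => ⟨_, hT c⟩
  exact hinj (hT (T x))

omit R in
/-- the code of a vector -/
noncomputable def cd (B : BilinForm F V) (a v b w x : V) : ℕ :=
  Code.mk (bit (B x b)) (bit (B x w)) (bit (B x a)) (bit (B x v))

omit R in
/-- the code of a linear map -/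
noncomputable def gcode (B : BilinForm F V) (a v b w : V) (g : V ≃ₗ[F] V) : ℕ :=
  enc (cd B a v b w (g a)) (cd B a v b w (g v)) (cd B a v b w (g b)) (cd B a v b w (g w))

local notation "κ" => cd B a v b w
local notation "γ" => gcode B a v b w

theorem cd_a : κ a = 1 := by
  simp [cd, R.self, R.ab, R.aw, R.av, bit_zero, bit_one, Code.mk]

theorem cd_v : κ v = 2 := by
  simp [cd, R.self, R.vw, R.comm v b, R.bv, R.comm v a, R.av, bit_zero, bit_one, Code.mk]

theorem cd_b : κ b = 4 := by
  simp [cd, R.self, R.comm b a, R.ab, R.bw, R.bv, bit_zero, bit_one, Code.mk]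

theorem cd_w : κ w = 8 := by
  simp [cd, R.self, R.comm w b, R.bw, R.comm w a, R.aw, R.comm w v, R.vw, bit_zero, bit_one, Code.mk]

theorem cd_add (x y : V) : κ (x + y) = κ x ^^^ κ y := by
  simp only [cd, map_add, LinearMap.add_apply, R.bit_add, mk_xor]

theorem cd_smul (s : F) (x : V) : κ (s • x) = sc (bit s) (κ x) := by
  rcases R.two s with rfl | rfl <;> simp [cd, bit_zero, bit_one, sc, Code.mk]

omit R in
theorem cd_lt (x : V) : κ x < 16 := mk_lt _ _ _ _

theorem cd_inj : Function.Injective κ := by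
  intro x y h
  have h0 := testBit_mk (bit (B x b)) (bit (B x w)) (bit (B x a)) (bit (B x v))
  have h1 := testBit_mk (bit (B y b)) (bit (B y w)) (bit (B y a)) (bit (B y v))
  simp only [cd] at h
  rw [h] at h0
  rw [← R.decomp x, ← R.decomp y, R.bit_inj (h0.1.symm.trans h1.1), R.bit_inj (h0.2.1.symm.trans h1.2.1),
    R.bit_inj (h0.2.2.1.symm.trans h1.2.2.1), R.bit_inj (h0.2.2.2.symm.trans h1.2.2.2)]

theorem cd_surj {i : ℕ} (hi : i < 16) : ∃ x, κ x = i := by
  refine ⟨cond (i.testBit 0) a 0 + cond (i.testBit 1) v 0 + cond (i.testBit 2) b 0 + cond (i.testBit 3) w 0, ?_⟩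
  rw [R.cd_add, R.cd_add, R.cd_add]
  have e : ∀ (p : Bool) (x : V), κ (cond p x 0) = sc p (κ x) := fun p x => by
    cases p <;> simp [sc, cd, bit_zero, Code.mk]
  rw [e, e, e, e, R.cd_a, R.cd_v, R.cd_b, R.cd_w]
  revert i
  decide

theorem bf_cd (x y : V) : bf (κ x) (κ y) = bit (B x y) := by
  conv_rhs => rw [← R.decomp y]
  simp only [map_add, map_smul, smul_eq_mul, R.bit_add, R.bit_mul, bf, cd, testBit_mk]
  generalize bit (B x a) = p, bit (B x v) = q, bit (B x b) = r, bit (B x w) = s, bit (B y b) = p',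
    bit (B y w) = q', bit (B y a) = r', bit (B y v) = s'
  revert p q r s p' q' r' s'
  decide

theorem cd_app (g : V ≃ₗ[F] V) (x : V) : κ (g x) = app (γ g) (κ x) := by
  conv_lhs => rw [← R.decomp x]
  simp only [map_add g, map_smul g, R.cd_add, R.cd_smul]
  obtain ⟨e0, e1, e2, e3⟩ := col_enc (cd_lt (B := B) (a := a) (v := v) (b := b) (w := w) (g a))
    (cd_lt (B := B) (a := a) (v := v) (b := b) (w := w) (g v))
    (cd_lt (B := B) (a := a) (v := v) (b := b) (w := w) (g b))
    (cd_lt (B := B) (a := a) (v := v) (b := b) (w := w) (g w))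
  simp only [app, gcode, e0, e1, e2, e3]
  simp only [cd, testBit_mk]

theorem gcode_mul (g h : V ≃ₗ[F] V) : γ (g * h) = comp (γ g) (γ h) := by
  have e := col_enc (cd_lt (B := B) (a := a) (v := v) (b := b) (w := w) (h a))
    (cd_lt (B := B) (a := a) (v := v) (b := b) (w := w) (h v))
    (cd_lt (B := B) (a := a) (v := v) (b := b) (w := w) (h b))
    (cd_lt (B := B) (a := a) (v := v) (b := b) (w := w) (h w))
  show enc (κ (g (h a))) (κ (g (h v))) (κ (g (h b))) (κ (g (h w))) = _
  rw [comp, R.cd_app g, R.cd_app g, R.cd_app g, R.cd_app g]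
  simp only [gcode, e]

theorem gcode_inj : Function.Injective γ := fun g h e => LinearEquiv.ext fun x =>
  R.cd_inj (by rw [R.cd_app, R.cd_app, e])

theorem gcode_one : γ 1 = idc := by
  show enc (κ a) (κ v) (κ b) (κ w) = _
  rw [R.cd_a, R.cd_v, R.cd_b, R.cd_w, idc]

theorem cd_rtf (c u : V) (l : F) (x : V) : κ (rtf B c u l x) = rf (κ c) (κ u) (bit l) (κ x) := by
  simp only [rtf, R.cd_add, R.cd_smul, R.bit_add, R.bit_mul, rf, R.bf_cd]

theorem gcode_root {c u : V} {l : F} {g : V ≃ₗ[F] V} (hg : ∀ x, g x = rtf B c u l x) :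
    γ g = rm (κ c) (κ u) (bit l) := by
  simp only [gcode, rm, hg, R.cd_rtf, R.cd_a, R.cd_v, R.cd_b, R.cd_w]

theorem mem_cands {g : V ≃ₗ[F] V} (hg : g ∈ Isom B) {f : ℕ → Bool}
    (hf : ∀ x, f (κ (g x)) = f (κ x)) : γ g ∈ cands f := by
  have hB : ∀ x y, bf (κ (g x)) (κ (g y)) = bit (B x y) := fun x y => by rw [R.bf_cd, hg]
  have e1 := hf a
  have e2 := hf v
  have e4 := hf b
  have e8 := hf w
  rw [R.cd_a] at e1; rw [R.cd_v] at e2; rw [R.cd_b] at e4; rw [R.cd_w] at e8
  simp only [cands, List.mem_flatMap, List.mem_map, List.mem_filter, List.mem_range]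
  refine ⟨_, ⟨cd_lt (g a), ?_⟩, _, ⟨cd_lt (g v), ?_⟩, _, ⟨cd_lt (g b), ?_⟩, _, ⟨cd_lt (g w), ?_⟩, rfl⟩
  · simp [e1]
  · simp [e2, hB, R.av, bit_zero]
  · simp [e4, hB, R.ab, R.comm v b, R.bv, bit_zero, bit_one]
  · simp [e8, hB, R.vw, R.aw, R.bw, bit_zero, bit_one]

/-- realised codes -/
theorem realize {p q r s : F} (hp : InL B L a v p) (hq : InL B L a w q) (hr : InL B L b v r)
    (hs : InL B L b w s) : ∀ m ∈ span (bit p) (bit q) (bit r) (bit s), ∃ g ∈ L, γ g = m := by
  have hbase : ∀ m ∈ [idc], ∃ g ∈ L, γ g = m := fun m hm => by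
    rw [List.mem_singleton] at hm
    exact ⟨1, L.one_mem, hm ▸ R.gcode_one⟩
  refine close_forall (fun m hm y hy => ?_) _ _ _ hbase hbase
  obtain ⟨g, hg, rfl⟩ := hm
  simp only [gens, List.mem_cons, List.not_mem_nil, or_false] at hy
  have key : ∀ {c u : V} {l : F}, InL B L c u l → y = rm (κ c) (κ u) (bit l) →
      ∃ g' ∈ L, γ g' = comp (γ g) y := by
    rintro c u l ⟨h, hh, eh⟩ rfl
    exact ⟨g * h, L.mul_mem hg hh, by rw [R.gcode_mul, R.gcode_root eh]⟩
  rcases hy with h | h | h | h
  · exact key hp (by rw [R.cd_a, R.cd_v]; exact h)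
  · exact key hq (by rw [R.cd_a, R.cd_w]; exact h)
  · exact key hr (by rw [R.cd_b, R.cd_v]; exact h)
  · exact key hs (by rw [R.cd_b, R.cd_w]; exact h)

variable [Finite F]

theorem length_le_card {l : List ℕ} (hl : l.Nodup) (h : ∀ m ∈ l, ∃ g ∈ L, γ g = m) :
    l.length ≤ Nat.card L := by
  classical
  have : Finite V := Module.finite_of_finite F
  have : Finite (V ≃ₗ[F] V) := Finite.of_injective _ DFunLike.coe_injective
  choose G hG hGm using h
  have hinj : Function.Injective fun i : Fin l.length =>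
      (⟨G (l.get i) (l.get_mem i), hG _ _⟩ : L) := fun i j e => by
    have e' : G (l.get i) (l.get_mem i) = G (l.get j) (l.get_mem j) := congrArg Subtype.val e
    have h1 := hGm (l.get i) (l.get_mem i)
    rw [e', hGm] at h1
    exact hl.injective_get h1.symm
  have := Nat.card_le_card_of_injective _ hinj
  rwa [Nat.card_fin] at this

theorem evenFix_iff (g : V ≃ₗ[F] V) : evenFix (γ g) = true ↔
    Even (Module.finrank F (LinearMap.range ((g : V →ₗ[F] V) - LinearMap.id))) := by
  classical
  have : Finite V := Module.finite_of_finite F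
  have := Fintype.ofFinite F
  set f := (g : V →ₗ[F] V) - LinearMap.id
  have h := f.finrank_range_add_finrank_ker
  rw [R.dim] at h
  have hF2 : Fintype.card F = 2 := by
    rw [← Nat.card_eq_fintype_card, Nat.card_eq_two_iff]
    exact ⟨0, 1, zero_ne_one, Set.eq_univ_of_forall fun x => by simpa using R.two x⟩
  have hcard : ((List.range 16).filter fun x => app (γ g) x == x).length =
      2 ^ Module.finrank F (LinearMap.ker f) := by
    rw [← List.toFinset_card_of_nodup (List.nodup_range.filter _), ← hF2, ← Nat.card_eq_fintype_card,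
      ← Module.natCard_eq_pow_finrank, ← Nat.card_eq_finsetCard]
    symm
    refine Nat.card_eq_of_bijective (fun x => ⟨κ x.1, ?_⟩) ⟨fun x y e => ?_, fun i => ?_⟩
    · simp only [List.mem_toFinset, List.mem_filter, List.mem_range, beq_iff_eq, ← R.cd_app]
      have hx := LinearMap.mem_ker.1 x.2
      exact ⟨cd_lt _, congrArg _ (sub_eq_zero.1 hx)⟩
    · exact Subtype.ext (R.cd_inj (congrArg Subtype.val e))
    · obtain ⟨i, hi⟩ := i
      simp only [List.mem_toFinset, List.mem_filter, List.mem_range, beq_iff_eq] at hi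
      obtain ⟨x, rfl⟩ := R.cd_surj hi.1
      rw [← R.cd_app] at hi
      exact ⟨⟨x, by simpa [f, sub_eq_zero] using R.cd_inj hi.2⟩, rfl⟩
  rw [evenFix]
  simp only [hcard]
  generalize Module.finrank F (LinearMap.ker f) = k at h
  generalize Module.finrank F (LinearMap.range f) = r at h
  obtain rfl : r = 4 - k := by omega
  have hk : k ≤ 4 := by omega
  revert hk
  clear * -
  intro hk
  interval_cases k <;> simp <;> decide

/-- The overgroups in the smallest case. -/
theorem classify (C : Ctx B L) {p q r s : F} (hp : InL B L a v p) (hq : InL B L a w q)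
    (hr : InL B L b v r) (hs : InL B L b w s) :
    (∃ Q : QuadraticForm F V, (∀ x y, QuadraticMap.polar Q x y = B x y) ∧
      (L = Orthogonal.O Q ∨ ∀ g : V ≃ₗ[F] V, g ∈ L ↔ g ∈ Orthogonal.O Q ∧
        Even (Module.finrank F (LinearMap.range ((g : V →ₗ[F] V) - LinearMap.id))))) ∨
    90 < Nat.card L := by
  classical
  have hreal := R.realize hp hq hr hs
  rcases diff_ok (bit p) (bit q) (bit r) (bit s) with ⟨h1, h2⟩ | h
  swap
  · simp only [chkDiff, Bool.and_eq_true, decide_eq_true_eq] at h
    exact Or.inr (h.1.trans_le (R.length_le_card h.2 hreal))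
  rw [← h1, ← h2] at hreal
  have hsame := same_ok (bit p) (bit q)
  simp only [chkSame, Bool.and_eq_true, decide_eq_true_eq, List.all_eq_true, List.contains_iff_mem,
    beq_iff_eq, Bool.or_eq_true] at hsame
  obtain ⟨⟨⟨⟨hnd, hlen⟩, hclos⟩, hgen⟩, ⟨hpres, hO⟩, hodd⟩ := hsame
  set K := span (bit p) (bit q) (bit p) (bit q) with hK
  let Q : QuadraticForm F V :=
    QuadraticMap.linMulLin (B.flip b) (B.flip a) + QuadraticMap.linMulLin (B.flip w) (B.flip v) +
      p • QuadraticMap.linMulLin (B.flip w) (B.flip w) + q • QuadraticMap.linMulLin (B.flip v) (B.flip v)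
  have hQv : ∀ x, Q x = B x b * B x a + B x w * B x v + p * (B x w * B x w) + q * (B x v * B x v) :=
    fun x => by simp [Q]
  have hqf : ∀ x, qf (bit p) (bit q) (κ x) = bit (Q x) := fun x => by
    rw [hQv]
    simp only [qf, cd, testBit_mk, R.bit_add, R.bit_mul, Bool.and_self]
  have hpol : ∀ x y, QuadraticMap.polar Q x y = B x y := fun x y => by
    simp only [QuadraticMap.polar, hQv, map_add, LinearMap.add_apply]
    conv_rhs => rw [← R.decomp y]
    simp only [map_add, map_smul, smul_eq_mul]
    linear_combination (p * (B x w * B y w) + q * (B x v * B y v)) * R.h2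
  have hmemO : ∀ g : V ≃ₗ[F] V, pres (bit p) (bit q) (γ g) = true → g ∈ Orthogonal.O Q := by
    intro g hg x
    simp only [pres, List.all_eq_true, List.mem_range, beq_iff_eq] at hg
    have := hg (κ x) (cd_lt x)
    rw [← R.cd_app, hqf, hqf] at this
    exact R.bit_inj this
  have hcand : ∀ g ∈ Orthogonal.O Q, γ g ∈ cands (qf (bit p) (bit q)) := by
    intro g hg
    refine R.mem_cands ?_ fun x => by rw [hqf, hqf, hg x]
    intro x y
    rw [← hpol, ← hpol, Orthogonal.polar_map_of_mem hg]
  have hKL : ∀ g, γ g ∈ K → g ∈ L := fun g hg => by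
    obtain ⟨g', hg', e⟩ := hreal _ hg
    rwa [← R.gcode_inj e]
  by_cases hle : L ≤ Orthogonal.O Q
  · refine Or.inl ⟨Q, hpol, ?_⟩
    by_cases hall : ∀ g ∈ L, evenFix (γ g) = true
    · refine Or.inr fun g => ⟨fun hg => ⟨hle hg, (R.evenFix_iff g).1 (hall g hg)⟩, fun ⟨hg, he⟩ => ?_⟩
      have h := hO _ (hcand g hg)
      rw [(R.evenFix_iff g).2 he] at h
      exact hKL g (List.contains_iff_mem.1 h)
    · push Not at hall
      obtain ⟨r₀, hr₀, hr₀odd⟩ := hall
      refine Or.inl (le_antisymm hle fun g hg => ?_)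
      by_cases he : evenFix (γ g) = true
      · have h := hO _ (hcand g hg)
        rw [he] at h
        exact hKL g (List.contains_iff_mem.1 h)
      · have h := (((hodd _ (hcand g hg)).resolve_left he) _ (hcand r₀ (hle hr₀))).resolve_left hr₀odd
        rw [← R.gcode_mul] at h
        exact (Subgroup.mul_mem_cancel_right L hr₀).1 (hKL _ h)
  · refine Or.inr ?_
    obtain ⟨c, hc, hcO⟩ := SetLike.not_le_iff_exists.1 hle
    have hmove := move_ok (bit p) (bit q)
    simp only [chkMove, List.all_eq_true, Bool.or_eq_true, List.any_eq_true, Bool.not_eq_true'] at hmove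
    obtain ⟨y, hy, hyc⟩ := (hmove _ (R.mem_cands (C.le hc) fun _ => rfl)).resolve_left
      fun h => hcO (hmemO c h)
    obtain ⟨x, hx, rfl⟩ := hreal y (hgen y hy)
    rw [← R.gcode_mul] at hyc
    have hxO : x ∈ Orthogonal.O Q := hmemO x (hpres _ (hgen _ hy))
    have hKO : ∀ g, γ g ∈ K → g ∈ Orthogonal.O Q := fun g hg => hmemO g (hpres _ hg)
    have : Finite V := Module.finite_of_finite F
    have : Finite (V ≃ₗ[F] V) := Finite.of_injective _ DFunLike.coe_injective
    have hdiv : ∀ g g', γ g ∈ K → γ g' ∈ K → γ (g⁻¹ * g') ∈ K := by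
      intro g g' hg hg'
      have hpow : ∀ n : ℕ, γ (g ^ n * g') ∈ K := fun n => by
        induction n with
        | zero => simpa using hg'
        | succ n ih =>
          rw [pow_succ', mul_assoc, R.gcode_mul]
          exact hclos _ hg _ ih
      have hfin : IsOfFinOrder g := isOfFinOrder_of_finite g
      obtain ⟨n, hn⟩ := (IsOfFinOrder.mem_powers_iff_mem_zpowers hfin).2
        (Subgroup.inv_mem _ (Subgroup.mem_zpowers g))
      rw [← hn]
      exact hpow n
    choose G hG hGm using hreal
    let S := {m // m ∈ K.toFinset}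
    let pick : S → V ≃ₗ[F] V := fun m => G m.1 (List.mem_toFinset.1 m.2)
    have hpick : ∀ m, γ (pick m) ∈ K := fun m => by
      rw [hGm]; exact List.mem_toFinset.1 m.2
    have hpinj : ∀ m m', pick m = pick m' → m = m' := fun m m' e => Subtype.ext (by
      rw [← hGm m.1 (List.mem_toFinset.1 m.2), ← hGm m'.1 (List.mem_toFinset.1 m'.2)]
      exact congrArg γ e)
    let d : Fin 3 → V ≃ₗ[F] V := ![1, c, c * x]
    have hd : ∀ i, d i ∈ L := by
      intro i; fin_cases i
      exacts [L.one_mem, hc, L.mul_mem hc hx]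
    have hne : ∀ i j m m', i < j → pick m * d i ≠ pick m' * d j := by
      intro i j m m' hij e
      have hq' : γ ((pick m')⁻¹ * pick m) ∈ K := hdiv _ _ (hpick m') (hpick m)
      have hqO := hKO _ hq'
      have e' : (pick m')⁻¹ * pick m * d i = d j := by rw [mul_assoc, e, inv_mul_cancel_left]
      fin_cases i <;> fin_cases j <;> simp [d] at hij e'
      · exact hcO (e' ▸ hqO)
      · exact hcO ((Subgroup.mul_mem_cancel_right _ hxO).1 (e' ▸ hqO))
      · refine Bool.eq_false_iff.1 hyc ?_
        rw [List.contains_iff_mem, List.mem_map]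
        exact ⟨_, hq', by rw [← R.gcode_mul, e']⟩
    let f : Fin 3 × S → L := fun z => ⟨pick z.2 * d z.1, L.mul_mem (hG _ _) (hd _)⟩
    have hf : Function.Injective f := by
      rintro ⟨i, m⟩ ⟨j, m'⟩ e
      have e' : pick m * d i = pick m' * d j := congrArg Subtype.val e
      rcases lt_trichotomy i j with h | rfl | h
      · exact absurd e' (hne _ _ _ _ h)
      · rw [hpinj _ _ (mul_right_cancel e')]
      · exact absurd e'.symm (hne _ _ _ _ h)
    have := Nat.card_le_card_of_injective f hf
    rw [Nat.card_prod, Nat.card_fin, Nat.card_eq_fintype_card, Fintype.card_coe,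
      List.toFinset_card_of_nodup hnd] at this
    omega

end Four

end Cfsg.Agent.H96.TwoRoot
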